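import Mathlib

/-!
# Arithmetic for the unitary row (helper762, TEAM PPD)

`j ≥ 1`, `r ≥ 3` the rank, `No = 2 r - 1` or `2 r + 1`, `n < 2 j No`.
-/

set_option autoImplicit false

namespace Cfsg.Agent.H762.Ppd.Ar

theorem two_mul_le_pow {j : ℕ} (hj : 1 ≤ j) : 2 * j ≤ 2 ^ j := by
  induction j, hj using Nat.le_induction with
  | base => norm_num
  | succ j hj ih => rw [pow_succ]; omega

theorem le_pow {d j : ℕ} (h : ∃ m, 2 ≤ m ∧ d = m ^ j) : 2 ^ j ≤ d := by
  obtain ⟨m, hm, rfl⟩ := h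
  exact Nat.pow_le_pow_left hm j

/-- the first node -/
theorem first {r j n d ε : ℕ} (hr : 3 ≤ r) (hj : 1 ≤ j) (hn : n < 2 * (j * (2 * r + 1)))
    (hd : ∃ m, 2 ≤ m ∧ d = m ^ j) (hε : d ≤ ε + 2) (h : 2 * r + 2 * r * (r - 1) * ε ≤ n) : j = 1 ∧ d ≤ 2 := by
  have h1 := le_pow hd
  have h2 := two_mul_le_pow hj
  obtain ⟨s, rfl⟩ := Nat.exists_eq_add_of_le hr
  have h3 : 2 * (3 + s) * 2 * ε ≤ 2 * (3 + s) * (3 + s - 1) * ε :=
    Nat.mul_le_mul_right _ (Nat.mul_le_mul_left _ (by omega))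
  have hj1 : j = 1 := by
    by_contra hj1
    have hj2 : 2 ≤ j := by omega
    have h4 : 2 * j - 2 ≤ ε := by omega
    obtain ⟨i, rfl⟩ := Nat.exists_eq_add_of_le hj2
    have h5 : 2 * (3 + s) * 2 * (2 + 2 * i) ≤ 2 * (3 + s) * 2 * ε := Nat.mul_le_mul_left _ (by omega)
    nlinarith
  subst hj1
  refine ⟨rfl, ?_⟩
  by_contra hd2
  have h4 : 1 ≤ ε := by omega
  have h5 : 2 * (3 + s) * (3 + s - 1) * 1 ≤ 2 * (3 + s) * (3 + s - 1) * ε := Nat.mul_le_mul_left _ h4
  have h6 : 3 + s - 1 = 2 + s := by omega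
  rw [h6] at h5 h
  nlinarith

theorem le_choose {n k : ℕ} (h1 : 1 ≤ k) (h2 : k < n) : n ≤ n.choose k := by
  induction n generalizing k with
  | zero => omega
  | succ n ih =>
    obtain ⟨k, rfl⟩ := Nat.exists_eq_add_of_le' h1
    rw [Nat.choose_succ_succ, Nat.succ_eq_add_one]
    by_cases h3 : k + 1 = n
    · rw [h3, Nat.choose_self]
      have : n.choose k = n := by
        rw [← h3, Nat.choose_succ_self_right]
      omega
    · have h4 := ih (k := k + 1) (by omega) (by omega)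
      have h5 : 1 ≤ n.choose k := Nat.choose_pos (by omega)
      omega

theorem six_mul_le {n k : ℕ} (hn : 4 ≤ n) (h1 : 2 ≤ k) (h2 : k < n) : 6 * n ≤ n.choose k * 2 ^ k := by
  rcases Nat.lt_or_ge 2 k with h3 | h3
  · have h4 := le_choose (by omega : 1 ≤ k) h2
    have h5 : 2 ^ 3 ≤ 2 ^ k := Nat.pow_le_pow_right (by norm_num) h3
    calc 6 * n ≤ n * 2 ^ 3 := by omega
      _ ≤ n.choose k * 2 ^ k := Nat.mul_le_mul h4 h5
  · obtain rfl : k = 2 := by omega
    have h4 := Nat.triangle_succ (n - 1)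
    have h5 : n - 1 + 1 = n := by omega
    have h6 : n.choose 2 * 2 = n * (n - 1) := by
      rw [Nat.choose_two_right]
      apply Nat.div_mul_cancel
      exact (Nat.even_mul_pred_self n).two_dvd
    have h7 : n * 3 ≤ n * (n - 1) := Nat.mul_le_mul_left _ (by omega)
    have h8 : (2 : ℕ) ^ 2 = 4 := by norm_num
    rw [h8]
    omega

/-- the nodes `1 ≤ i`, `i + 1 < r`, `r ≥ 4` -/
theorem mid {r j n d i : ℕ} (hr : 4 ≤ r) (hj : 1 ≤ j) (hn : n < 2 * (j * (2 * r + 1)))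
    (hd : ∃ m, 2 ≤ m ∧ d = m ^ j) (hi : 1 ≤ i) (hi' : i + 1 < r)
    (h : (r.choose (i + 1) * 2 ^ (i + 1)) * d ≤ 2 * n) : False := by
  have h1 := le_pow hd
  have h2 := two_mul_le_pow hj
  have h3 := six_mul_le hr (by omega : 2 ≤ i + 1) hi'
  have h4 : 6 * r * (2 * j) ≤ 2 * n := (Nat.mul_le_mul h3 (h2.trans h1)).trans h
  nlinarith

/-- `B_3`, the middle node, `N = 6` -/
theorem mid_six {j n d : ℕ} (hj : 1 ≤ j) (hn : n < 2 * (j * 5)) (hd : ∃ m, 2 ≤ m ∧ d = m ^ j)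
    (h : 12 * d ≤ 2 * n) : False := by
  have h1 := le_pow hd
  have h2 := two_mul_le_pow hj
  omega

theorem three_le {j : ℕ} (hj : 3 ≤ j) : 8 * j ≤ 3 * 2 ^ j := by
  induction j, hj using Nat.le_induction with
  | base => norm_num
  | succ j hj ih => rw [pow_succ]; omega

/-- `B_3`, the middle node, `N = 7` -/
theorem mid_seven {j n d ε : ℕ} (hj : 1 ≤ j) (hn : n < 2 * (j * 7)) (hd : ∃ m, 2 ≤ m ∧ d = m ^ j)
    (h : 12 * d ≤ 2 * n) (hε : d ≤ ε + 2) (h' : 12 + 24 * ε ≤ n) : j = 1 := by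
  have h1 := le_pow hd
  by_contra hj1
  rcases Nat.lt_or_ge 2 j with h3 | h3
  · have := three_le h3
    omega
  · obtain rfl : j = 2 := by omega
    omega

theorem pow_ge {j : ℕ} (hj : 3 ≤ j) : 14 * j + 4 ≤ 6 * 2 ^ j := by
  induction j, hj using Nat.le_induction with
  | base => norm_num
  | succ j hj ih => rw [pow_succ]; omega

theorem rank_ge {r : ℕ} (hr : 3 ≤ r) : 4 * r + 2 ≤ 14 * 2 ^ (r - 3) := by
  obtain ⟨s, rfl⟩ := Nat.exists_eq_add_of_le hr
  have h1 : 3 + s - 3 = s := by omega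
  rw [h1]
  induction s with
  | zero => norm_num
  | succ s ih => rw [pow_succ]; have := ih (by omega) (by omega); omega

theorem pow_five {r : ℕ} (hr : 5 ≤ r) : 4 * r + 2 ≤ 2 ^ r := by
  induction r, hr using Nat.le_induction with
  | base => norm_num
  | succ r hr ih => rw [pow_succ]; omega

/-- the last node: `X = 4 ^ s ≥ 2 ^ j` -/
theorem last {r j n s No : ℕ} (hr : 3 ≤ r) (hj : 1 ≤ j) (hNo : No = 2 * r - 1 ∨ No = 2 * r + 1) (hn : n < 2 * (j * No)) (hs : j ≤ 2 * s)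
    (h : 2 ^ (r - 3) * (2 + 2 * (3 + 3 * (4 ^ s - 2))) ≤ n) : r = 3 ∧ No = 7 ∧ j = 2 := by
  have h4 : 2 ^ j ≤ 4 ^ s := by
    calc 2 ^ j ≤ 2 ^ (2 * s) := Nat.pow_le_pow_right (by norm_num) hs
      _ = 4 ^ s := by rw [pow_mul]; norm_num
  have h4' : 4 ≤ 4 ^ s := by
    calc 4 = 4 ^ 1 := by norm_num
      _ ≤ 4 ^ s := Nat.pow_le_pow_right (by norm_num) (by omega)
  have hr' := rank_ge hr
  have hR : 1 ≤ 2 ^ (r - 3) := Nat.one_le_two_pow
  set R := 2 ^ (r - 3) with hRdef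
  set X := 4 ^ s with hX
  rcases Nat.lt_or_ge 2 j with h3 | h3
  · exfalso
    have h5 := pow_ge h3
    have h6 : 14 * j ≤ 2 + 2 * (3 + 3 * (X - 2)) := by omega
    have h7 : R * (14 * j) ≤ n := (Nat.mul_le_mul_left _ h6).trans h
    have h8 : j * No ≤ j * (2 * r + 1) := Nat.mul_le_mul_left _ (by omega)
    have h9 : j * (4 * r + 2) ≤ j * (14 * R) := Nat.mul_le_mul_left _ hr'
    nlinarith
  · have h6 : 20 ≤ 2 + 2 * (3 + 3 * (X - 2)) := by omega
    have h7 : R * 20 ≤ n := (Nat.mul_le_mul_left _ h6).trans h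
    rcases Nat.lt_or_ge 1 j with h8 | h8
    · obtain rfl : j = 2 := by omega
      rcases Nat.lt_or_ge 3 r with h9 | h9
      · exfalso
        -- `r ≥ 4`
        have h10 : 2 * r + 1 ≤ 5 * R := by
          rw [hRdef]
          obtain ⟨t, rfl⟩ := Nat.exists_eq_add_of_le h9
          have e : 3 + 1 + t - 3 = t + 1 := by omega
          rw [e]
          clear * -
          induction t with
          | zero => norm_num
          | succ t ih => rw [pow_succ]; omega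
        omega
      · obtain rfl : r = 3 := by omega
        have h10 : R = 1 := by rw [hRdef]; norm_num
        rw [h10] at h7
        refine ⟨rfl, ?_, rfl⟩
        omega
    · obtain rfl : j = 1 := by omega
      exfalso
      omega

end Cfsg.Agent.H762.Ppd.Ar
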