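import Cfsg.Agent.H762.Ppd.SuCov

/-!
# The covering group `M.I` and the group `SU_N(K)` (helper762, TEAM PPD)

* `exists_covSU'` : the covering group, with `φ = φ₀ ∘ M.φ`, `φ₀ : SU_N(K) → GL(ι, F)`;
* **`not_mem_witt`** : a node outside `J` for `φ` is outside `J` for `φ₀`.
-/

set_option autoImplicit false
set_option linter.unusedSectionVars false
set_option linter.style.haveILetI false

namespace Cfsg.Agent.H762.Ppd

open CoxeterSystem Cfsg.Agent.ChevalleyStructure.CoxeterGeom Cfsg.Agent.Tits.Roots Cfsg.Agent.Tits.Core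
  Cfsg.Agent.Nodes.Reps Cfsg.Agent.Nodes.BNOf Cfsg.Agent.Nodes.Bruhat Cfsg.Agent.Nodes.RGDLib
open Cfsg.Agent.Nodes Cfsg.Agent.Nodes.WittRoot Cfsg.Agent.Nodes.WittRGD Cfsg.Agent.Nodes.WittAll Cfsg.Agent.Nodes.WittU
open Cfsg.Agent.Nodes.TypeC (isCartan)
open Cfsg.Agent.LieClassical.HermBasic Cfsg.Agent.LieClassical.HermSiegel
open Cfsg.Agent.TitsThree.Siegel Cfsg.Agent.TitsThree.SiegelGen Cfsg.Agent.TitsThree.WittFrame Cfsg.Agent.TitsThree.FrameCN
  Cfsg.Agent.TitsThree.WBridge Cfsg.Agent.TitsThree.KSideU Cfsg.Agent.TitsThree.KSideUDesc Cfsg.Agent.TitsThree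
open Cfsg.Agent.H915.LD Cfsg.Agent.H911 Cfsg.Agent.H905.Md Cfsg.Agent.H925.Nat Cfsg.Agent.Nodes.RGDLift
open Cfsg.Agent.H156.Ppd (Cov lrep exists_cov)
open Cfsg.Agent.Omega.CR Cfsg.Agent.Omega.FOne.Lift.Sd
open Cfsg.Agent.H948.Ppd
open Cfsg.Agent.H61.SUCross Cfsg.Agent.H48.NatSU
open Cfsg Cfsg.Geo
open scoped MatrixGroups Matrix

universe u v w

variable {K : Type} [Field K] [Fintype K] {q N n : ℕ} {hK : Fintype.card K = q ^ 2} {hN : 3 ≤ N} {W : WFrame (PU hK N) n}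
  {F : Type u} [Field F] [Finite F] {ι : Type} [Fintype ι] [DecidableEq ι] {P : Subgroup (GL ι F)}
  {p : ℕ} [hp : Fact p.Prime] [hFp : CharP F p] [hKp : CharP K p]

theorem exists_covSU' (hC : Core P) (h32 : ¬ (N = 3 ∧ q = 2)) (hn : 0 < n)
    {hA : AmbT (toFrame W) p (modelSU hK hN W).I} {p0 : (toFrame W).Adm} (hp0 : p0.c ≠ 0)
    (e : Soc P ≃* PSU N K q) :
    ∃ φ₀ : SU N K q →* GL ι F, φ₀.range = P ∧
      Cov (CoxeterMatrix.B n).toCoxeterSystem (isCartan n) p (TB (modelSU hK hN W)) (NB hA p0)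
        (XB (modelSU hK hN W)) P (MonoidHom.id (modelSU hK hN W).I) (φ₀.comp (modelSU hK hN W).φ) (NB hA p0) := by
  have hperf := perfect_I (hN := hN) (W := W) h32
  have hWf : Finite (CoxeterMatrix.B n).Group := TypeC.finite_W (CoxeterMatrix.B n).toCoxeterSystem
  have := finite_GL (K := K) (ν := Fin N)
  have R := rgdB hA hp0 (CoxeterMatrix.B n).toCoxeterSystem (M := modelSU hK hN W)
  have hG := genB hA hn hperf (CoxeterMatrix.B n).toCoxeterSystem
  obtain ⟨φ, hφ, -, -⟩ := psu_cover p hK hN h32 hC.perfect e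
  have hker : (MonoidHom.id (modelSU hK hN W).I).ker = ⊥ := by
    rw [MonoidHom.ker_eq_bot_iff]
    exact fun _ _ h => h
  have h1 : (MonoidHom.id (modelSU hK hN W).I).ker ≤ Subgroup.center _ := by rw [hker]; exact bot_le
  have h2 : (Nat.card (MonoidHom.id (modelSU hK hN W).I).ker).Coprime p := by
    rw [hker, Subgroup.card_bot]; exact Nat.coprime_one_left _
  obtain ⟨n₁, hn₁, R₁, hG₁⟩ := H905.DC.exists_rgd_lift hperf h1 h2 Function.surjective_id R hG
  obtain rfl : n₁ = NB hA p0 := funext hn₁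
  refine ⟨φ, hφ, Function.surjective_id, h1, h2, hn₁, R₁, hG₁, ?_⟩
  rw [MonoidHom.range_comp]
  have h3 : (modelSU hK hN W).φ.range = ⊤ := MonoidHom.range_eq_top.2 (ofRange K q N).surjective
  rw [h3, ← MonoidHom.range_eq_map, hφ]

theorem not_mem_witt (hC : Core P) {hA : AmbT (toFrame W) p (modelSU hK hN W).I} {p0 : (toFrame W).Adm}
    (hp0 : p0.c ≠ 0) {φ₀ : SU N K q →* GL ι F}
    (C : Cov (CoxeterMatrix.B n).toCoxeterSystem (isCartan n) p (TB (modelSU hK hN W)) (NB hA p0)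
        (XB (modelSU hK hN W)) P (MonoidHom.id (modelSU hK hN W).I) (φ₀.comp (modelSU hK hN W).φ) (NB hA p0))
    (hT : ∀ s ∈ (TB (modelSU hK hN W)).comap (MonoidHom.id (modelSU hK hN W).I),
      ∀ t ∈ (TB (modelSU hK hN W)).comap (MonoidHom.id (modelSU hK hN W).I), s * t = t * s)
    {i : Fin n} (hi : i ∉ JB (modelSU hK hN W) p (MonoidHom.id (modelSU hK hN W).I) (φ₀.comp (modelSU hK hN W).φ)) :
    i ∉ Jx (CoxeterMatrix.B n).toCoxeterSystem (isCartan n) (WittModel.X (modelSU hK hN W)) (lrep φ₀) := by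
  have hWf : Finite (CoxeterMatrix.B n).Group := TypeC.finite_W (CoxeterMatrix.B n).toCoxeterSystem
  have := finite_GL (K := K) (ν := Fin N)
  have hne := hC.nonempty
  have R := rgdB hA hp0 (CoxeterMatrix.B n).toCoxeterSystem (M := modelSU hK hN W)
  intro h
  apply hi
  rw [← jx_iff C.rgd C.hGG hT C.range hC.absIrred]
  intro x hx v hv
  have hPi := R.pgrp' (isRoot_sr (CoxeterMatrix.B n).toCoxeterSystem (isCartan n) i).neg
  have hx1 := ((mem_lft C.ker hPi).1 hx).1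
  refine h ((modelSU hK hN W).φ x) ⟨x, hx1, rfl⟩ v ?_
  let S : Subgroup (SU N K q) :=
    { carrier := {u | lrep φ₀ u v = v}
      one_mem' := rho_one _ v
      mul_mem' := by
        intro a b (ha : lrep φ₀ a v = v) (hb : lrep φ₀ b v = v)
        change lrep φ₀ (a * b) v = v
        rw [rho_mul, hb, ha]
      inv_mem' := by
        intro a (ha : lrep φ₀ a v = v)
        change lrep φ₀ a⁻¹ v = v
        conv_lhs => rw [← ha]
        exact rho_inv_rho _ a v }
  have hS : RGD.Sup (WittModel.X (modelSU hK hN W)) (RGD.Pos (CoxeterMatrix.B n).toCoxeterSystem (isCartan n)) ≤ S := by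
    refine RGD.Sup_le fun y hy => ?_
    rintro _ ⟨u, hu, rfl⟩
    have hPy := R.pgrp' hy.1
    obtain ⟨k, hk⟩ := hPy ⟨u, hu⟩
    have h3 : u ∈ lft p (MonoidHom.id (modelSU hK hN W).I) (XB (modelSU hK hN W) y) :=
      (mem_lft C.ker hPy).2 ⟨hu, k, congrArg Subtype.val hk⟩
    exact hv u (RGD.le_Sup hy h3)
  exact fun u hu => hS hu

end Cfsg.Agent.H762.Ppd
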