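import Cfsg.Agent.H762.Ppd.Expo
import Cfsg.Agent.H117.LeviC

/-!
# The rank of a long node: lower bound (helper762, TEAM PPD)

**`four_le_lrk`** : `|K| = q ^ 2`, `q = p ^ f`, `|F| = p ^ a`, `s * gcd a f = f`, `w⁻¹ α_i > 0`, `w⁻¹ s_i w ∉ W_J`, and
`g⁻¹ σ(diag(t, t⁻¹)) g` acts trivially on `V^U` if `t ^ (q + 1) = 1`: then `4 ^ s ≤ lrk {i} g`.
-/

set_option autoImplicit false
set_option linter.unusedSectionVars false
set_option linter.style.haveILetI false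

namespace Cfsg.Agent.H762.Ppd

open Matrix CoxeterSystem Cfsg.Agent.ChevalleyStructure.CoxeterGeom Cfsg.Agent.Tits.Roots Cfsg.Agent.Tits.Core
  Cfsg.Agent.Tits.Exchange Cfsg.Agent.Nodes.Reps Cfsg.Agent.Nodes.BNOf Cfsg.Agent.Nodes.StabComb
  Cfsg.Agent.Nodes.Bruhat Cfsg.Agent.Nodes.OppDec Cfsg.Agent.Nodes.LeviDec Cfsg.Agent.KFacts.RgdOpp
  Cfsg.Agent.Omega.CR Cfsg.Agent.Omega.FOne.Lift.Sd Cfsg.Agent.H905.Md
open Cfsg Cfsg.Geo
open Cfsg.Agent.H911 (lin)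
open Cfsg.Agent.H911.SLTwo (U Lo hh ww hh_mul hh_one)
open Cfsg.Agent.H875.Fn (SS)
open Cfsg.Agent.H117.Levi

variable {I W Y : Type*} [Fintype I] [DecidableEq I] [Group W] [Group Y] {M : CoxeterMatrix I}
  {cs : CoxeterSystem M W} {A : I → I → ℤ} {h : IsCartan M A} {p : ℕ} {T : Subgroup Y} {n : I → Y}
  {X : (I → ℤ) → Subgroup Y} {F : Type*} [Field F] {ι : Type} [Fintype ι] [DecidableEq ι]
  {P : Subgroup (GL ι F)} {E : Type*} [Field E] [Fintype E]

variable (R : RGD cs h p T n X) [Finite Y] [Finite W] [hp : Fact p.Prime] [CharP F p] [CharP E p] [Nonempty ι]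
  (hG : GG cs h T X = ⊤) (hT : ∀ s ∈ T, ∀ t ∈ T, s * t = t * s) {φ : Y →* GL ι F} (hφ : φ.range = P)
  (hP : ActsAbsolutelyIrreducibly (matrixSet P)) {i : I} {σ : SpecialLinearGroup (Fin 2) E →* Y}
  (N : H650.Ppd.Nd T X i σ)
include R hG hT hφ hP N

theorem four_le_lrk [Finite F] {w : W} {g : Y} (hg : Rp cs R.nsys w g)
    (hmin : 0 ≤ rep cs h w⁻¹ (sr i)) (hs : w⁻¹ * cs.simple i * w ∉ WJ cs (Jx cs h X (lin (acRep φ))))
    (hw : Rp cs R.nsys (cs.simple i) (σ ww)) {q : ℕ} (hE : Fintype.card E = q ^ 2) {a f s : ℕ}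
    (hF : Nat.card F = p ^ a) (hq : q = p ^ f) (hgcd : s * Nat.gcd a f = f)
    (hfix : ∀ t : Eˣ, t ^ (q + 1) = 1 → ∀ v ∈ D cs h X (lin (acRep φ)),
      lin (acRep φ) (g⁻¹ * σ (hh t) * g) v = v) :
    4 ^ s ≤ lrk cs h T X (lin (acRep φ)) {i} g := by
  have hchar : CharP (AlgebraicClosure F) p := charP_of_injective_algebraMap (algebraMap F _).injective p
  have hirr := ac_irr R hG hT hφ hP
  have hD := finrank_D R hirr hT
  obtain ⟨c, hc, hc0, χ, hχ⟩ := exists_chi R hirr hT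
  obtain ⟨j⟩ := H875.Psl2.exists_emb F E p
  have := Fintype.ofFinite F
  have hgT : ∀ t ∈ T, g⁻¹ * t * g ∈ T := by
    intro t ht
    have h1 := (Rp.inv hg).1
    have h2 := (Subgroup.mem_normalizer_iff.1 h1 t).1 ht
    rwa [inv_inv] at h2
  have hmul : ∀ x ∈ T, ∀ y ∈ T, χ (x * y) = χ x * χ y := by
    intro x hx y hy
    have h1 := hχ _ (mul_mem hx hy)
    rw [rho_mul, hχ y hy, map_smul, hχ x hx, smul_smul] at h1
    exact (smul_left_injective _ hc0 (h1.trans rfl)).symm.trans (mul_comm _ _)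
  have hone : χ 1 = 1 := by
    have h1 := hχ 1 (one_mem _)
    rw [rho_one] at h1
    refine (smul_left_injective _ hc0 (?_ : (1 : AlgebraicClosure F) • c = χ 1 • c)).symm
    rw [one_smul]
    exact h1
  let ψ : Eˣ →* AlgebraicClosure F :=
    { toFun := fun t => χ (g⁻¹ * σ (hh t) * g)
      map_one' := by
        rw [hh_one, map_one, mul_one, inv_mul_cancel, hone]
      map_mul' := fun s t => by
        rw [← hmul _ (hgT _ (N.tor s)) _ (hgT _ (N.tor t))]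
        congr 1
        rw [← hh_mul, map_mul]
        group }
  have hψ : ∀ t, ψ t = χ (g⁻¹ * σ (hh t) * g) := fun t => rfl
  obtain ⟨e, he1, he2, he3, he4⟩ := exists_exp_norm j hE p ψ (fun t ht => by
    have h1 := hχ _ (hgT _ (N.tor t))
    rw [hfix t ht c hc] at h1
    rw [hψ]
    refine (smul_left_injective _ hc0 (?_ : (1 : AlgebraicClosure F) • c = χ (g⁻¹ * σ (hh t) * g) • c)).symm
    rw [one_smul]
    exact h1) hq (a := a) (fun t => by
    obtain ⟨b, hb⟩ := chi_mem R hG hφ hP hc hc0 hχ (hgT _ (N.tor t))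
    rw [hψ, ← hb, ← map_pow]
    congr 1
    rw [← hF, Nat.card_eq_fintype_card]
    exact FiniteField.pow_card b) hgcd
  refine he4.trans (card_SS_le_lrk R hirr hg hmin hs j σ (fun t => (N.up _).2 ⟨t, rfl⟩) (fun t => (N.lo _).2 ⟨t, rfl⟩)
    N.tor hw he1 he2 fun t v hv => ?_)
  obtain ⟨b, rfl⟩ := H650.Ppd.exists_smul_of_mem hD hc hc0 hv
  rw [map_smul, hχ _ (hgT _ (N.tor t)), ← hψ, he3, smul_comm]

end Cfsg.Agent.H762.Ppd
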