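import Cfsg.Agent.H762.Ppd.SpinB

/-!
# The last node in type `B_n`: the bound (helper762, TEAM PPD)
-/

set_option autoImplicit false
set_option linter.unusedSectionVars false
set_option linter.style.haveILetI false

namespace Cfsg.Agent.H762.Ppd.Spin

open CoxeterSystem Cfsg.Agent.ChevalleyStructure.CoxeterGeom Cfsg.Agent.Tits.Roots Cfsg.Agent.Tits.Core
  Cfsg.Agent.Nodes.Reps Cfsg.Agent.Nodes.BNOf Cfsg.Agent.Nodes.Bruhat Cfsg.Agent.Nodes.TypeC
  Cfsg.Agent.Omega.CR Cfsg.Agent.H905.Md Cfsg.Agent.H117.Levi
open Cfsg.Agent.H48.WittNeg (rf rf_last rf_up ee_rep fl)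

variable {n : ℕ}

/-- twice a coordinate vector -/
def de (k : Fin n) : Fin n → ℤ := fun m => if m = k then 2 else 0

theorem smem {W : Type*} [Group W] {cs : CoxeterSystem (CoxeterMatrix.B n) W} {A' : Set (Fin n)} {i : Fin n}
    (hi : i ∈ A') : cs.simple i ∈ WJ cs A' := by
  unfold WJ
  exact Subgroup.subset_closure ⟨i, hi, rfl⟩

section coord

variable {a b c : Fin n} (L : Ls a b c)
include L

theorem Ls.ra_a : rf a (de a) = de b := by
  have hab := L.ab
  funext m
  rw [L.rfa]
  unfold de
  split_ifs <;> simp_all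

theorem Ls.ra_b : rf a (de b) = de a := by
  have hab := L.ab
  funext m
  rw [L.rfa]
  unfold de
  split_ifs <;> simp_all

theorem Ls.ra_c : rf a (de c) = de c := by
  have hab := L.ab
  have hbc := L.bc
  have hac := L.ac
  funext m
  rw [L.rfa]
  unfold de
  split_ifs <;> simp_all

theorem Ls.rb_a : rf b (de a) = de a := by
  have hab := L.ab
  have hbc := L.bc
  have hac := L.ac
  funext m
  rw [L.rfb]
  unfold de
  split_ifs <;> simp_all

theorem Ls.rb_b : rf b (de b) = de c := by
  have hbc := L.bc
  funext m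
  rw [L.rfb]
  unfold de
  split_ifs <;> simp_all

theorem Ls.rb_c : rf b (de c) = de b := by
  have hbc := L.bc
  funext m
  rw [L.rfb]
  unfold de
  split_ifs <;> simp_all

theorem Ls.fl_de {S : Finset (Fin n)} (hS : ∀ k ∈ S, (k : ℕ) + 3 < n) {k : Fin n} (hk : k = a ∨ k = b ∨ k = c) :
    fl S (de k) = de k := by
  obtain ⟨h1, h2, h3⟩ := L.fne hS
  have hkS : k ∉ S := by rcases hk with rfl | rfl | rfl <;> assumption
  funext m
  unfold fl de
  by_cases hm : m ∈ S
  · have : m ≠ k := fun h => hkS (h ▸ hm)
    simp [this]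
  · rw [if_neg hm]

theorem Ls.F1 {S : Finset (Fin n)} (hS : ∀ k ∈ S, (k : ℕ) + 3 < n) {k : Fin n} (hk : k = a ∨ k = b ∨ k = c) :
    Fj a b c 1 (fl S (de k)) = if k = c then -2 else 2 := by
  rw [L.fl_de hS hk]
  unfold Fj de
  rw [Sm_single]
  have hab := L.ab
  have hbc := L.bc
  have hac := L.ac
  rcases hk with rfl | rfl | rfl
  · simp [hac, hac.symm]
  · simp [hbc, hbc.symm]
  · simp

theorem Ls.F2 {S : Finset (Fin n)} (hS : ∀ k ∈ S, (k : ℕ) + 3 < n) {k : Fin n} (hk : k = a ∨ k = b ∨ k = c) :
    Fj a b c 2 (fl S (de k)) = if k = a then 2 else -2 := by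
  rw [L.fl_de hS hk]
  unfold Fj de
  rw [Sm_single]
  have hab := L.ab
  have hbc := L.bc
  have hac := L.ac
  rcases hk with rfl | rfl | rfl
  · simp [hab.symm, hac.symm]
  · simp [hbc.symm, hab.symm]
  · simp [hbc, hac.symm]

end coord

section main

variable {W Y : Type*} [Group W] [Group Y] {cs : CoxeterSystem (CoxeterMatrix.B n) W} {p : ℕ} {T : Subgroup Y}
  {nn : Fin n → Y} {X : (Fin n → ℤ) → Subgroup Y} {k V : Type*} [Field k] [AddCommGroup V] [Module k V]
variable (R : RGD cs (isCartan n) p T nn X) [Finite Y] [Finite W] [Fact p.Prime] [CharP k p]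
  {ρ : Y →* Module.End k V} [FiniteDimensional k V] [Nontrivial V]
  (hirr : ∀ L : Submodule k V, Ivt ρ (GG cs (isCartan n) T X) L → L = ⊥ ∨ L = ⊤)
  (hD : Module.finrank k (D cs (isCartan n) X ρ) = 1)
  {a b c : Fin n} (L : Ls a b c) (hc : c ∉ Jx cs (isCartan n) X ρ)
  {u : Finset (Fin n) → W} (hu : ∀ S x, ee (rep cs (isCartan n) (u S) x) = fl S (ee x))
  {S : Finset (Fin n)} (hS : ∀ k ∈ S, (k : ℕ) + 3 < n)
include R hirr hD L hc hu hS

theorem Ls.lrk_one {g : Y} (hg : Rp cs R.nsys (u S * wj cs a b c 1) g) {m : ℕ}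
    (hm : m ≤ lrk cs (isCartan n) T X ρ {b} g) : 3 + 3 * (m - 2) ≤ lrk cs (isCartan n) T X ρ {a, b} g := by
  have hab := L.ab
  have hbc := L.bc
  have hac := L.ac
  have ha' : cs.simple a ∈ WJ cs ({a, b} : Set (Fin n)) := smem (by simp)
  have hb' : cs.simple b ∈ WJ cs ({a, b} : Set (Fin n)) := smem (by simp)
  have h1 := lrk_ge R hirr hg (L.hmin u hu hS 1) (α := Fin 3) (β := Fin 3)
    ![1, cs.simple b, cs.simple a * cs.simple b]
    (by intro x; fin_cases x; exacts [one_mem _, hb', mul_mem ha' hb'])
    (by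
      obtain ⟨ya, hya⟩ := exists_y cs a
      obtain ⟨yb, hyb⟩ := exists_y cs b
      obtain ⟨yc, hyc⟩ := exists_y cs c
      change ee ya = de a at hya
      change ee yb = de b at hyb
      change ee yc = de c at hyc
      have va : ∀ x : Fin 3, sv cs (![1, cs.simple b, cs.simple a * cs.simple b] x * (u S * wj cs a b c 1)) ya =
          ![2, 2, -2] x := by
        intro x
        rw [L.sv_mul, L.sv_wj u hu]
        fin_cases x
        · simp [hya, L.F1 hS, hac]
        · simp only [Fin.isValue, Fin.mk_one, Matrix.cons_val_one, Matrix.cons_val_zero, inv_simple, ee_rep, hya, L.rb_a]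
          simp [L.F1 hS, hac]
        · simp only [Fin.isValue, Fin.reduceFinMk, Matrix.cons_val, _root_.mul_inv_rev, inv_simple, rep_mul_apply, ee_rep,
            hya, L.ra_a, L.rb_b]
          simp [L.F1 hS]
      have vb : ∀ x : Fin 3, sv cs (![1, cs.simple b, cs.simple a * cs.simple b] x * (u S * wj cs a b c 1)) yb =
          ![2, -2, 2] x := by
        intro x
        rw [L.sv_mul, L.sv_wj u hu]
        fin_cases x
        · simp [hyb, L.F1 hS, hbc]
        · simp only [Fin.isValue, Fin.mk_one, Matrix.cons_val_one, Matrix.cons_val_zero, inv_simple, ee_rep, hyb, L.rb_b]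
          simp [L.F1 hS]
        · simp only [Fin.isValue, Fin.reduceFinMk, Matrix.cons_val, _root_.mul_inv_rev, inv_simple, rep_mul_apply, ee_rep,
            hyb, L.ra_b, L.rb_a]
          simp [L.F1 hS, hac]
      have vc : ∀ x : Fin 3, sv cs (![1, cs.simple b, cs.simple a * cs.simple b] x * (u S * wj cs a b c 1)) yc =
          ![-2, 2, 2] x := by
        intro x
        rw [L.sv_mul, L.sv_wj u hu]
        fin_cases x
        · simp [hyc, L.F1 hS]
        · simp only [Fin.isValue, Fin.mk_one, Matrix.cons_val_one, Matrix.cons_val_zero, inv_simple, ee_rep, hyc, L.rb_c]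
          simp [L.F1 hS, hbc]
        · simp only [Fin.isValue, Fin.reduceFinMk, Matrix.cons_val, _root_.mul_inv_rev, inv_simple, rep_mul_apply, ee_rep,
            hyc, L.ra_c, L.rb_c]
          simp [L.F1 hS, hbc]
      intro x x' hxx h
      have e1 := L.sv_eq' hc h ya
      have e2 := L.sv_eq' hc h yb
      have e3 := L.sv_eq' hc h yc
      rw [va, va] at e1
      rw [vb, vb] at e2
      rw [vc, vc] at e3
      clear va vb vc h
      revert x x'
      decide)
    ![1, cs.simple a, cs.simple b * cs.simple a]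
    (by intro x; fin_cases x; exacts [one_mem _, ha', mul_mem hb' ha'])
    (fun _ => b) (fun _ => by simp)
    (by
      have v0 : ∀ x : Fin 3, ee (rep cs (isCartan n) (![1, cs.simple a, cs.simple b * cs.simple a] x) (sr b)) a = ![0, 1, 1] x := by
        intro x
        fin_cases x
        · simp [ee_sr, L.btb, hab, hac]
        · simp only [Fin.isValue, Fin.mk_one, Matrix.cons_val_one, Matrix.cons_val_zero, ee_rep, ee_sr, L.rfa, L.btb]
          simp [hbc]
        · simp only [Fin.isValue, Fin.reduceFinMk, Matrix.cons_val, rep_mul_apply, ee_rep, ee_sr, L.rfa, L.rfb, L.btb]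
          simp [hab, hab.symm, hac, hbc]
      have v1 : ∀ x : Fin 3, ee (rep cs (isCartan n) (![1, cs.simple a, cs.simple b * cs.simple a] x) (sr b)) b = ![1, 0, -1] x := by
        intro x
        fin_cases x
        · simp [ee_sr, L.btb]
        · simp only [Fin.isValue, Fin.mk_one, Matrix.cons_val_one, Matrix.cons_val_zero, ee_rep, ee_sr, L.rfa, L.btb]
          simp [hab, hab.symm, hac]
        · simp only [Fin.isValue, Fin.reduceFinMk, Matrix.cons_val, rep_mul_apply, ee_rep, ee_sr, L.rfa, L.rfb, L.btb]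
          simp [hab, hab.symm, hac, hac.symm, hbc, hbc.symm]
      intro x x' hxx h
      have h2 : rep cs (isCartan n) (![1, cs.simple a, cs.simple b * cs.simple a] x') (sr b) =
          rep cs (isCartan n) (![1, cs.simple a, cs.simple b * cs.simple a] x) (sr b) ∨
          rep cs (isCartan n) (![1, cs.simple a, cs.simple b * cs.simple a] x') (sr b) =
          - rep cs (isCartan n) (![1, cs.simple a, cs.simple b * cs.simple a] x) (sr b) := by
        rcases h.1 with h3 | h3
        · left
          have h4 := congrArg (rep cs (isCartan n) (![1, cs.simple a, cs.simple b * cs.simple a] x)) h3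
          rw [rep_mul_apply, rep_apply_inv] at h4
          exact h4
        · right
          have h4 := congrArg (rep cs (isCartan n) (![1, cs.simple a, cs.simple b * cs.simple a] x)) h3
          rw [rep_mul_apply, rep_apply_inv, map_neg] at h4
          exact h4
      rcases h2 with h2 | h2
      · have h3 := congrArg (fun y => ee y a) h2
        have h4 := congrArg (fun y => ee y b) h2
        simp only [v0, v1] at h3 h4
        clear v0 v1 h h2
        revert x x'
        decide
      · have h3 := congrArg (fun y => ee y a) h2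
        have h4 := congrArg (fun y => ee y b) h2
        simp only [ee_neg, Pi.neg_apply, v0, v1] at h3 h4
        clear v0 v1 h h2
        revert x x'
        decide)
  rw [hD] at h1
  simp only [Fintype.card_fin, Finset.sum_const, Finset.card_univ, smul_eq_mul] at h1
  omega

theorem Ls.lrk_two {g : Y} (hg : Rp cs R.nsys (u S * wj cs a b c 2) g) {m : ℕ}
    (hm : m ≤ lrk cs (isCartan n) T X ρ {a} g) : 3 + 3 * (m - 2) ≤ lrk cs (isCartan n) T X ρ {a, b} g := by
  have hab := L.ab
  have hbc := L.bc
  have hac := L.ac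
  have ha' : cs.simple a ∈ WJ cs ({a, b} : Set (Fin n)) := smem (by simp)
  have hb' : cs.simple b ∈ WJ cs ({a, b} : Set (Fin n)) := smem (by simp)
  have h1 := lrk_ge R hirr hg (L.hmin u hu hS 2) (α := Fin 3) (β := Fin 3)
    ![1, cs.simple a, cs.simple b * cs.simple a]
    (by intro x; fin_cases x; exacts [one_mem _, ha', mul_mem hb' ha'])
    (by
      obtain ⟨ya, hya⟩ := exists_y cs a
      obtain ⟨yb, hyb⟩ := exists_y cs b
      obtain ⟨yc, hyc⟩ := exists_y cs c
      change ee ya = de a at hya
      change ee yb = de b at hyb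
      change ee yc = de c at hyc
      have va : ∀ x : Fin 3, sv cs (![1, cs.simple a, cs.simple b * cs.simple a] x * (u S * wj cs a b c 2)) ya =
          ![2, -2, -2] x := by
        intro x
        rw [L.sv_mul, L.sv_wj u hu]
        fin_cases x
        · simp [hya, L.F2 hS]
        · simp only [Fin.isValue, Fin.mk_one, Matrix.cons_val_one, Matrix.cons_val_zero, inv_simple, ee_rep, hya, L.ra_a]
          simp [L.F2 hS, hab.symm]
        · simp only [Fin.isValue, Fin.reduceFinMk, Matrix.cons_val, _root_.mul_inv_rev, inv_simple, rep_mul_apply, ee_rep,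
            hya, L.rb_a, L.ra_a]
          simp [L.F2 hS, hab.symm]
      have vb : ∀ x : Fin 3, sv cs (![1, cs.simple a, cs.simple b * cs.simple a] x * (u S * wj cs a b c 2)) yb =
          ![-2, 2, -2] x := by
        intro x
        rw [L.sv_mul, L.sv_wj u hu]
        fin_cases x
        · simp [hyb, L.F2 hS, hab.symm]
        · simp only [Fin.isValue, Fin.mk_one, Matrix.cons_val_one, Matrix.cons_val_zero, inv_simple, ee_rep, hyb, L.ra_b]
          simp [L.F2 hS]
        · simp only [Fin.isValue, Fin.reduceFinMk, Matrix.cons_val, _root_.mul_inv_rev, inv_simple, rep_mul_apply, ee_rep,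
            hyb, L.rb_b, L.ra_c]
          simp [L.F2 hS, hac.symm]
      have vc : ∀ x : Fin 3, sv cs (![1, cs.simple a, cs.simple b * cs.simple a] x * (u S * wj cs a b c 2)) yc =
          ![-2, -2, 2] x := by
        intro x
        rw [L.sv_mul, L.sv_wj u hu]
        fin_cases x
        · simp [hyc, L.F2 hS, hac.symm]
        · simp only [Fin.isValue, Fin.mk_one, Matrix.cons_val_one, Matrix.cons_val_zero, inv_simple, ee_rep, hyc, L.ra_c]
          simp [L.F2 hS, hac.symm]
        · simp only [Fin.isValue, Fin.reduceFinMk, Matrix.cons_val, _root_.mul_inv_rev, inv_simple, rep_mul_apply, ee_rep,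
            hyc, L.rb_c, L.ra_b]
          simp [L.F2 hS]
      intro x x' hxx h
      have e1 := L.sv_eq' hc h ya
      have e2 := L.sv_eq' hc h yb
      have e3 := L.sv_eq' hc h yc
      rw [va, va] at e1
      rw [vb, vb] at e2
      rw [vc, vc] at e3
      clear va vb vc h
      revert x x'
      decide)
    ![1, cs.simple b, cs.simple a * cs.simple b]
    (by intro x; fin_cases x; exacts [one_mem _, hb', mul_mem ha' hb'])
    (fun _ => a) (fun _ => by simp)
    (by
      have v0 : ∀ x : Fin 3, ee (rep cs (isCartan n) (![1, cs.simple b, cs.simple a * cs.simple b] x) (sr a)) a = ![1, 1, 0] x := by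
        intro x
        fin_cases x
        · simp [ee_sr, L.bta]
        · simp only [Fin.isValue, Fin.mk_one, Matrix.cons_val_one, Matrix.cons_val_zero, ee_rep, ee_sr, L.rfb, L.bta]
          simp [hab, hac]
        · simp only [Fin.isValue, Fin.reduceFinMk, Matrix.cons_val, rep_mul_apply, ee_rep, ee_sr, L.rfa, L.rfb, L.bta]
          simp [hab, hab.symm, hac, hac.symm, hbc, hbc.symm]
      have v1 : ∀ x : Fin 3, ee (rep cs (isCartan n) (![1, cs.simple b, cs.simple a * cs.simple b] x) (sr a)) b = ![-1, 0, 1] x := by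
        intro x
        fin_cases x
        · simp [ee_sr, L.bta, hab.symm]
        · simp only [Fin.isValue, Fin.mk_one, Matrix.cons_val_one, Matrix.cons_val_zero, ee_rep, ee_sr, L.rfb, L.bta]
          simp [hac.symm, hbc.symm]
        · simp only [Fin.isValue, Fin.reduceFinMk, Matrix.cons_val, rep_mul_apply, ee_rep, ee_sr, L.rfa, L.rfb, L.bta]
          simp [hab, hab.symm, hac, hac.symm, hbc, hbc.symm]
      intro x x' hxx h
      have h2 : rep cs (isCartan n) (![1, cs.simple b, cs.simple a * cs.simple b] x') (sr a) =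
          rep cs (isCartan n) (![1, cs.simple b, cs.simple a * cs.simple b] x) (sr a) ∨
          rep cs (isCartan n) (![1, cs.simple b, cs.simple a * cs.simple b] x') (sr a) =
          - rep cs (isCartan n) (![1, cs.simple b, cs.simple a * cs.simple b] x) (sr a) := by
        rcases h.1 with h3 | h3
        · left
          have h4 := congrArg (rep cs (isCartan n) (![1, cs.simple b, cs.simple a * cs.simple b] x)) h3
          rw [rep_mul_apply, rep_apply_inv] at h4
          exact h4
        · right
          have h4 := congrArg (rep cs (isCartan n) (![1, cs.simple b, cs.simple a * cs.simple b] x)) h3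
          rw [rep_mul_apply, rep_apply_inv, map_neg] at h4
          exact h4
      rcases h2 with h2 | h2
      · have h3 := congrArg (fun y => ee y a) h2
        have h4 := congrArg (fun y => ee y b) h2
        simp only [v0, v1] at h3 h4
        clear v0 v1 h h2
        revert x x'
        decide
      · have h3 := congrArg (fun y => ee y a) h2
        have h4 := congrArg (fun y => ee y b) h2
        simp only [ee_neg, Pi.neg_apply, v0, v1] at h3 h4
        clear v0 v1 h h2
        revert x x'
        decide)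
  rw [hD] at h1
  simp only [Fintype.card_fin, Finset.sum_const, Finset.card_univ, smul_eq_mul] at h1
  omega

end main

section bound

variable {W Y : Type*} [Group W] [Group Y] {cs : CoxeterSystem (CoxeterMatrix.B n) W} {p : ℕ} {T : Subgroup Y}
  {nn : Fin n → Y} {X : (Fin n → ℤ) → Subgroup Y} {k V : Type*} [Field k] [AddCommGroup V] [Module k V]
variable (R : RGD cs (isCartan n) p T nn X) [Finite Y] [Finite W] [Fact p.Prime] [CharP k p]
  {ρ : Y →* Module.End k V} [FiniteDimensional k V] [Nontrivial V]
  (hirr : ∀ L : Submodule k V, Ivt ρ (GG cs (isCartan n) T X) L → L = ⊥ ∨ L = ⊤)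
  (hD : Module.finrank k (D cs (isCartan n) X ρ) = 1)
  {a b c : Fin n} (L : Ls a b c) (hc : c ∉ Jx cs (isCartan n) X ρ)
  {u : Finset (Fin n) → W} (hu : ∀ S x, ee (rep cs (isCartan n) (u S) x) = fl S (ee x))
include R hirr hD L hc hu

/-- the representatives -/
def gj (nn : Fin n → Y) (a b c : Fin n) (j : Fin 4) : Y :=
  if j = 0 then 1 else if j = 1 then nn c else if j = 2 then nn c * nn b * nn c else
    nn c * nn b * nn c * (nn a * nn b * nn c)

omit [Finite Y] [Finite W] [Fact p.Prime] [CharP k p] [FiniteDimensional k V] [Nontrivial V] hirr hD L hc hu in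
theorem rp_gj (j : Fin 4) : Rp cs R.nsys (wj cs a b c j) (gj nn a b c j) := by
  unfold wj gj
  fin_cases j
  · exact rp_one
  · exact rp_simple cs R.nsys c
  · exact ((rp_simple cs R.nsys c).mul (rp_simple cs R.nsys b)).mul (rp_simple cs R.nsys c)
  · exact (((rp_simple cs R.nsys c).mul (rp_simple cs R.nsys b)).mul (rp_simple cs R.nsys c)).mul
      (((rp_simple cs R.nsys a).mul (rp_simple cs R.nsys b)).mul (rp_simple cs R.nsys c))

/-- **The bound for the last node.** -/
theorem spin_bound {gu : Finset (Fin n) → Y} (hgu : ∀ S, Rp cs R.nsys (u S) (gu S)) {m : ℕ}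
    (hm1 : ∀ S : Finset (Fin n), (∀ k ∈ S, (k : ℕ) + 3 < n) → m ≤ lrk cs (isCartan n) T X ρ {b} (gu S * nn c))
    (hm2 : ∀ S : Finset (Fin n), (∀ k ∈ S, (k : ℕ) + 3 < n) → m ≤ lrk cs (isCartan n) T X ρ {a} (gu S * (nn c * nn b * nn c))) :
    2 ^ (n - 3) * (2 + 2 * (3 + 3 * (m - 2))) ≤ Module.finrank k V := by
  classical
  set P : Finset (Finset (Fin n)) := (Finset.univ.filter fun k : Fin n => (k : ℕ) + 3 < n).powerset with hP
  have hPS : ∀ S : P, ∀ k ∈ S.1, (k : ℕ) + 3 < n := by
    intro S k hk
    have h1 := Finset.mem_powerset.1 S.2 hk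
    exact (Finset.mem_filter.1 h1).2
  have hcard : Fintype.card P = 2 ^ (n - 3) := by
    rw [Fintype.card_coe, hP, Finset.card_powerset]
    congr 1
    have h1 : (Finset.univ.filter fun k : Fin n => (k : ℕ) + 3 < n) = Finset.univ.filter fun k : Fin n => (k : ℕ) < n - 3 := by
      ext k
      simp only [Finset.mem_filter, Finset.mem_univ, true_and]
      omega
    rw [h1, Fin.card_filter_val_lt]
    omega
  have h1 := dim_ge_levi R hirr ({a, b} : Set (Fin n)) (α := P × Fin 4) (fun x => u x.1 * wj cs a b c x.2)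
    (fun x => gu x.1 * gj nn a b c x.2) (fun x => (hgu _).mul (rp_gj R x.2)) (fun x => L.hmin u hu (hPS x.1) x.2)
    (by
      rintro ⟨S, j⟩ ⟨S', j'⟩ hne x hx h
      obtain ⟨h2, h3⟩ := L.sep u hc hu (hPS S) (hPS S') hx h
      exact hne (Prod.ext (Subtype.ext h2) h3))
  refine le_trans ?_ h1
  rw [Fintype.sum_prod_type]
  have h2 : ∀ S : P, 2 + 2 * (3 + 3 * (m - 2)) ≤
      ∑ j : Fin 4, lrk cs (isCartan n) T X ρ {a, b} (gu S * gj nn a b c j) := by
    intro S
    have e0 := one_le_lrk R hirr (ρ := ρ) ({a, b} : Set (Fin n)) (gu S * gj nn a b c 0)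
    have e3 := one_le_lrk R hirr (ρ := ρ) ({a, b} : Set (Fin n)) (gu S * gj nn a b c 3)
    have e1 := L.lrk_one R hirr hD hc hu (hPS S) ((hgu S).mul (rp_gj R 1)) (hm1 S (hPS S))
    have e2 := L.lrk_two R hirr hD hc hu (hPS S) ((hgu S).mul (rp_gj R 2)) (hm2 S (hPS S))
    rw [Fin.sum_univ_four]
    omega
  calc 2 ^ (n - 3) * (2 + 2 * (3 + 3 * (m - 2))) = ∑ _S : P, (2 + 2 * (3 + 3 * (m - 2))) := by
        rw [Finset.sum_const, Finset.card_univ, hcard, smul_eq_mul]
    _ ≤ _ := Finset.sum_le_sum fun S _ => h2 S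

end bound

end Cfsg.Agent.H762.Ppd.Spin
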