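import Cfsg.Agent.H48.NatSU
import Cfsg.Agent.H948.Ppd.NdWitt

/-!
# The torus of a Witt frame: the long nodes (helper762, TEAM PPD)

`Fr : Frame H (Fin n)`, `i ≠ j`, `phiS Fr hij : SL_2(F) → GL(V)`.

* `ev` : the eigenvalues of `phiS (diag(t, t⁻¹))`; `phiS_b`, `phiS_V0`; `phiS_ww` : `phiS ww` is monomial over `sg i`;
* `conj_b`, `conj_V0` : conjugation of a torus element by a monomial isometry;
* `nd_long'` : the long nodes, with the explicit homomorphism;
* **`conj_one`** : `g` monomial over `flip S ∘ sg c`: `g⁻¹ h_b(t) g = h_b(t)` if `t σ(t) = 1`;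
* **`conj_two`** : `g` monomial over `flip S ∘ sg c ∘ sg b ∘ sg c`: `g⁻¹ h_a(t) g = h_a(t) h_b(t)` if `t σ(t) = 1`.
-/

set_option autoImplicit false
set_option linter.unusedSectionVars false
set_option linter.style.haveILetI false

namespace Cfsg.Agent.H762.Ppd

open Cfsg.Agent.ChevalleyStructure.CoxeterGeom Cfsg.Agent.Tits.Roots
open Cfsg.Agent.Nodes.Comb Cfsg.Agent.Nodes.Reps Cfsg.Agent.Nodes.WittRoot Cfsg.Agent.Nodes.BNOf
open Cfsg.Agent.Nodes.RGDLib Cfsg.Agent.Nodes.WittAll Cfsg.Agent.Nodes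
open Cfsg.Agent.TitsThree Cfsg.Agent.TitsThree.Siegel Cfsg.Agent.TitsThree.WittFrame Cfsg.Agent.TitsThree.WittWeyl
open Cfsg.Agent.Nodes.TypeC (ng ng_ng ng_fst ng_snd nx sg sg_up sg_down sg_last sg_of_ne sg_sg)
open Cfsg.Agent.Nodes.WittRGD (Tor mem_Tor rg_sr rg_neg_sr)
open Cfsg.Agent.H911.SLTwo Cfsg.Agent.H62.FrameSL Cfsg.Agent.H948.Ppd
open Cfsg.Agent.H48.WittNeg renaming flip → fp
open Cfsg.Agent.H48.NatSU (eq_of_fix)
open scoped MatrixGroups

variable {F : Type*} [Field F] {V : Type*} [AddCommGroup V] [Module F V] {H : HForm F V} {n : ℕ}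
  {Fr : Frame H (Fin n)} {G0 : Subgroup (V ≃ₗ[F] V)} {p : ℕ}

/-- the eigenvalues of the torus element -/
def ev (H : HForm F V) (i j : Fin n) (t : Fˣ) (x : Fin n × Bool) : F :=
  if x.1 = i then (if x.2 then (t : F) else H.σ ((t⁻¹ : Fˣ) : F)) else
    if x.1 = j then (if x.2 then ((t⁻¹ : Fˣ) : F) else H.σ (t : F)) else 1

theorem phiS_b {i j : Fin n} (hij : i ≠ j) (t : Fˣ) (x : Fin n × Bool) :
    phiS Fr hij (hh t) (Fr.b x) = ev H i j t x • Fr.b x := by
  have hε := H.ε_ne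
  obtain ⟨k, b⟩ := x
  unfold ev
  rw [phiS_apply, linS_apply]
  simp only [hh00, hh01, hh10, hh11, map_zero, zero_mul, add_zero, sub_zero, zero_add, neg_zero]
  by_cases hk : k = i
  · subst hk
    rw [if_pos rfl]
    cases b
    · rw [if_neg (by simp)]
      simp only [hs, hf, hn Fr hij, inv_mul_cancel₀ hε]
      simp only [mul_zero, mul_one, zero_smul, add_zero]
      module
    · rw [if_pos rfl]
      simp only [hs, H62.FrameSL.ht, hn Fr hij]
      simp only [mul_zero, mul_one, zero_smul, add_zero]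
      module
  · rw [if_neg hk]
    by_cases hk' : k = j
    · subst hk'
      rw [if_pos rfl]
      cases b
      · rw [if_neg (by simp)]
        simp only [hs, hf, hn Fr hij.symm, inv_mul_cancel₀ hε]
        simp only [mul_zero, mul_one, zero_smul, add_zero]
        module
      · rw [if_pos rfl]
        simp only [hs, H62.FrameSL.ht, hn Fr hij.symm]
        simp only [mul_zero, mul_one, zero_smul, add_zero]
        module
    · rw [if_neg hk']
      rw [hn Fr hk, hn Fr hk, hn Fr hk', hn Fr hk']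
      simp only [mul_zero, zero_smul, add_zero, one_smul]

theorem phiS_V0 {i j : Fin n} (hij : i ≠ j) (g : SL(2, F)) {w : V} (hw : w ∈ Fr.V0) : phiS Fr hij g w = w := by
  rw [phiS_apply, linS_apply]
  simp only [Fr.h0' _ hw, mul_zero, add_zero, sub_zero, zero_smul]

theorem phiS_ww {i : Fin n} (hi : (i : ℕ) + 1 < n) (hij : i ≠ ⟨i + 1, hi⟩) :
    Mono Fr (phiS Fr hij ww) (sg i) := by
  have hε := H.ε_ne
  have h1' : H.σ (-1) = -1 := by rw [map_neg, map_one]
  rintro ⟨k, b⟩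
  rw [phiS_apply, linS_apply]
  simp only [ww00, ww01, ww10, ww11, h1', map_zero, map_one, zero_mul, add_zero, sub_zero, zero_add, neg_zero]
  by_cases hk : k = i
  · subst hk
    rw [sg_up hi]
    cases b
    · refine ⟨-1, neg_ne_zero.2 one_ne_zero, ?_⟩
      simp only [hs, hf, hn Fr hij, inv_mul_cancel₀ hε]
      simp only [mul_zero, mul_one, zero_smul, add_zero]
      module
    · refine ⟨-1, neg_ne_zero.2 one_ne_zero, ?_⟩
      simp only [hs, H62.FrameSL.ht, hn Fr hij]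
      simp only [mul_zero, mul_one, zero_smul, add_zero]
      module
  · by_cases hk' : k = ⟨i + 1, hi⟩
    · subst hk'
      rw [sg_down hi]
      cases b
      · refine ⟨1, one_ne_zero, ?_⟩
        simp only [hs, hf, hn Fr hij.symm, inv_mul_cancel₀ hε]
        simp only [mul_zero, mul_one, zero_smul, add_zero]
        module
      · refine ⟨1, one_ne_zero, ?_⟩
        simp only [hs, H62.FrameSL.ht, hn Fr hij.symm]
        simp only [mul_zero, mul_one, zero_smul, add_zero]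
        module
    · refine ⟨1, one_ne_zero, ?_⟩
      rw [sg_of_ne hk (fun h' => hk' (Fin.ext h'))]
      rw [hn Fr hk, hn Fr hk, hn Fr hk', hn Fr hk']
      simp only [mul_zero, zero_smul, add_zero, one_smul]
      module

/-- **The long nodes.** -/
theorem nd_long' (hle : ∀ x, WittRoot.rg Fr x ≤ G0) {i : Fin n} (hi : (i : ℕ) + 1 < n) (hij : i ≠ ⟨i + 1, hi⟩) :
    ∃ σ : SL(2, F) →* G0, (∀ g, (σ g : V ≃ₗ[F] V) = phiS Fr hij g) ∧
      Nd ((Tor Fr G0).subgroupOf G0) (fun x => (WittRoot.rg Fr x).subgroupOf G0) i σ := by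
  have hu : ∀ y, y ∈ WittRoot.rg Fr (sr i) ↔ ∃ t, phiS Fr hij (U t) = y := by
    intro y
    rw [rg_sr, PG_ne Fr (H61.SUNode.ne_nx hi), H61.SUNode.nx_of_lt hi, mem_XG]
    exact exists_congr fun t => eq_comm.trans (iff_of_eq (congrArg (· = y) (phiS_up Fr hij t).symm))
  have hl : ∀ y, y ∈ WittRoot.rg Fr (-sr i) ↔ ∃ t, phiS Fr hij (Lo t) = y := by
    intro y
    rw [rg_neg_sr, PG_ne Fr (a := ng (i, true)) (b := ng (nx i)) (H61.SUNode.ne_nx hi),
      XG_swap Fr (a := ng (i, true)) (b := ng (nx i)) (H61.SUNode.ne_nx hi), H61.SUNode.nx_of_lt hi, mem_XG]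
    exact exists_congr fun t => eq_comm.trans (iff_of_eq (congrArg (· = y) (phiS_lo Fr hij t).symm))
  exact exists_nd hle (phiS Fr hij) hu hl (phiS_hh hij)

/-! ### conjugation -/

theorem conj_b {s g : V ≃ₗ[F] V} {e : Fin n × Bool → F} (hs : ∀ x, s (Fr.b x) = e x • Fr.b x)
    {π : Fin n × Bool → Fin n × Bool} (hg : Mono Fr g π) (x : Fin n × Bool) :
    (g⁻¹ * s * g) (Fr.b x) = e (π x) • Fr.b x := by
  obtain ⟨l, hl, e1⟩ := hg x
  have h6 : g⁻¹ (Fr.b (π x)) = l⁻¹ • Fr.b x := by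
    have h5 : g⁻¹ (g (Fr.b x)) = Fr.b x := by
      rw [← mul_apply', inv_mul_cancel]; rfl
    rw [e1, map_smul] at h5
    rw [← h5, smul_smul, inv_mul_cancel₀ hl, one_smul]
  rw [mul_apply', mul_apply', e1, map_smul, hs, map_smul, map_smul, h6, smul_smul, smul_smul]
  congr 1
  field_simp

theorem conj_V0 (hA : AmbT Fr p G0) {s g : V ≃ₗ[F] V} (hg : g ∈ G0) (hs : ∀ w ∈ Fr.V0, s w = w)
    {π ρ : Fin n × Bool → Fin n × Bool} (hm : Mono Fr g π) (hρ : ∀ x, π (ρ x) = x) {w : V} (hw : w ∈ Fr.V0) :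
    (g⁻¹ * s * g) w = w := by
  rw [mul_apply', mul_apply', hs _ (hA.map_V0 hg hm hρ hw), ← mul_apply', inv_mul_cancel]
  rfl

section three

variable {a b c : Fin n} (ha : (a : ℕ) + 3 = n) (hb : (b : ℕ) + 2 = n) (hc : (c : ℕ) + 1 = n)

theorem fp_ne {S : Finset (Fin n)} (x : Fin n × Bool) (h : x.1 ∉ S) : fp S x = x := if_neg h

theorem fp_fst (S : Finset (Fin n)) (x : Fin n × Bool) : (fp S x).1 = x.1 := by
  unfold fp
  split_ifs
  · rfl
  · rfl

theorem ev_ne {i j : Fin n} {t : Fˣ} {x : Fin n × Bool} (h1 : x.1 ≠ i) (h2 : x.1 ≠ j) : ev H i j t x = 1 := by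
  unfold ev
  rw [if_neg h1, if_neg h2]

theorem ev_i {i j : Fin n} {t : Fˣ} (s : Bool) : ev H i j t (i, s) = if s then (t : F) else H.σ ((t⁻¹ : Fˣ) : F) :=
  if_pos rfl

theorem ev_j {i j : Fin n} (hij : i ≠ j) {t : Fˣ} (s : Bool) :
    ev H i j t (j, s) = if s then ((t⁻¹ : Fˣ) : F) else H.σ (t : F) := by
  unfold ev
  rw [if_neg (fun h => hij h.symm), if_pos rfl]

/-- `σ(t) = t⁻¹` -/
theorem sig_eq {t : Fˣ} (ht : (t : F) * H.σ t = 1) : H.σ (t : F) = ((t⁻¹ : Fˣ) : F) := by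
  rw [Units.val_inv_eq_inv_val]
  exact eq_inv_of_mul_eq_one_right ht

theorem sig_eq' {t : Fˣ} (ht : (t : F) * H.σ t = 1) : H.σ ((t⁻¹ : Fˣ) : F) = (t : F) := by
  rw [← sig_eq ht, H.σσ]

include hb hc in
/-- **The last long node.** -/
theorem ev_one {S : Finset (Fin n)} (hS : ∀ k ∈ S, (k : ℕ) + 3 < n) (hbc : b ≠ c) {t : Fˣ}
    (ht : (t : F) * H.σ t = 1) (x : Fin n × Bool) : ev H b c t (fp S (sg c x)) = ev H b c t x := by
  have hbS : b ∉ S := fun h => by have := hS b h; omega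
  have hcS : c ∉ S := fun h => by have := hS c h; omega
  have hc' : ¬ (c : ℕ) + 1 < n := by omega
  obtain ⟨k, s⟩ := x
  by_cases h1 : k = c
  · subst h1
    rw [sg_last hc', fp_ne _ hcS, ev_j hbc, ev_j hbc, sig_eq ht]
    cases s <;> rfl
  · rw [sg_of_ne h1 (fun h => by have := k.2; simp only at h; omega)]
    by_cases h2 : k = b
    · subst h2
      rw [fp_ne _ hbS]
    · rw [ev_ne (by rw [fp_fst]; exact h2) (by rw [fp_fst]; exact h1), ev_ne h2 h1]

include ha hb hc in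
/-- **The long node before.** -/
theorem ev_two {S : Finset (Fin n)} (hS : ∀ k ∈ S, (k : ℕ) + 3 < n) (hab : a ≠ b) (hbc : b ≠ c) (hac : a ≠ c) {t : Fˣ}
    (ht : (t : F) * H.σ t = 1) (x : Fin n × Bool) :
    ev H a b t (fp S (sg c (sg b (sg c x)))) = ev H a b t x * ev H b c t x := by
  have haS : a ∉ S := fun h => by have := hS a h; omega
  have hbS : b ∉ S := fun h => by have := hS b h; omega
  have hcS : c ∉ S := fun h => by have := hS c h; omega
  have hc' : ¬ (c : ℕ) + 1 < n := by omega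
  have hb' : (b : ℕ) + 1 < n := by omega
  have hbc' : (⟨b + 1, hb'⟩ : Fin n) = c := Fin.ext (by simp only; omega)
  have h1 : (t : F) * ((t⁻¹ : Fˣ) : F) = 1 := by rw [← Units.val_mul, mul_inv_cancel, Units.val_one]
  have hsb : ∀ s, sg b (b, s) = (c, s) := fun s => by rw [sg_up hb', hbc']
  have hsc : ∀ s, sg b (c, s) = (b, s) := fun s => by rw [← hbc', sg_down hb']
  have hscb : ∀ s, sg c (b, s) = (b, s) := fun s =>
    sg_of_ne hbc (fun h => by simp only at h; omega)
  obtain ⟨k, s⟩ := x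
  by_cases hk1 : k = c
  · subst hk1
    rw [sg_last hc', hsc, hscb, fp_ne _ hbS, ev_j hab, ev_ne (Ne.symm hac) (Ne.symm hbc), ev_j hbc, one_mul,
      sig_eq ht]
    cases s <;> rfl
  · have e0 : sg c (k, s) = (k, s) := sg_of_ne hk1 (fun h => by have := k.2; simp only at h; omega)
    rw [e0]
    by_cases hk2 : k = b
    · subst hk2
      rw [hsb, sg_last hc', fp_ne _ hcS, ev_ne (Ne.symm hac) (Ne.symm hbc), ev_j hab, ev_i, sig_eq ht, sig_eq' ht]
      cases s
      · simp only [Bool.false_eq_true, if_false]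
        rw [mul_comm]
        exact h1.symm
      · simp only [if_true]
        rw [mul_comm]
        exact h1.symm
    · have e1 : sg b (k, s) = (k, s) := sg_of_ne hk2 (fun h => hk1 (Fin.ext (by simp only at h; omega)))
      rw [e1, e0, ev_ne (x := (k, s)) hk2 hk1, mul_one]
      by_cases hk3 : k = a
      · subst hk3
        rw [fp_ne _ haS]
      · rw [ev_ne (by rw [fp_fst]; exact hk3) (by rw [fp_fst]; exact hk2), ev_ne hk3 hk2]

end three

end Cfsg.Agent.H762.Ppd
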