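import Cfsg.Agent.H762.Ppd.SuCov
import Cfsg.Agent.H762.Ppd.SuTor
import Cfsg.Agent.H762.Ppd.Rank
import Cfsg.Agent.H762.Ppd.SpinC

/-!
# `SU_N(K)`: the bound for the last node (helper762, TEAM PPD)

`C` : the covering group `M.I` of the core `P`, the last node `c` is the only node outside `J`, rank `n ≥ 3`.

* `exists_flipI` : representatives of the sign changes in `M.I`;
* `fix_node` : the rank one group of a node in `J` fixes `V^U`;
* **`last_bound`** : `2 ^ (n - 3) * (6 * 4 ^ s - 4) ≤ |ι|`, `|F| = p ^ a`, `q = p ^ f`, `s * gcd a f = f`.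
-/

set_option autoImplicit false
set_option linter.unusedSectionVars false
set_option linter.style.haveILetI false

namespace Cfsg.Agent.H762.Ppd

open CoxeterSystem Cfsg.Agent.ChevalleyStructure.CoxeterGeom Cfsg.Agent.Tits.Roots Cfsg.Agent.Tits.Core
  Cfsg.Agent.Nodes.Reps Cfsg.Agent.Nodes.BNOf Cfsg.Agent.Nodes.Bruhat Cfsg.Agent.Nodes.RGDLib
open Cfsg.Agent.Nodes Cfsg.Agent.Nodes.WittRoot Cfsg.Agent.Nodes.WittRGD Cfsg.Agent.Nodes.WittAll Cfsg.Agent.Nodes.WittU
open Cfsg.Agent.Nodes.TypeC (isCartan sg sg_up sg_last sg_sg ng ng_ng ng_fst ee ee_injective ee_add)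
open Cfsg.Agent.LieClassical.HermBasic Cfsg.Agent.LieClassical.HermSiegel
open Cfsg.Agent.TitsThree.Siegel Cfsg.Agent.TitsThree.SiegelGen Cfsg.Agent.TitsThree.WittFrame Cfsg.Agent.TitsThree.FrameCN
  Cfsg.Agent.TitsThree.WBridge Cfsg.Agent.TitsThree.KSideU Cfsg.Agent.TitsThree.KSideUDesc Cfsg.Agent.TitsThree
open Cfsg.Agent.H915.LD Cfsg.Agent.H911 Cfsg.Agent.H905.Md Cfsg.Agent.H925.Nat Cfsg.Agent.Nodes.RGDLift
open Cfsg.Agent.H156.Ppd (Cov lrep exists_cov)
open Cfsg.Agent.Omega.CR Cfsg.Agent.Omega.FOne.Lift.Sd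
open Cfsg.Agent.H948.Ppd Cfsg.Agent.H117.Levi
open Cfsg.Agent.H61.SUCross Cfsg.Agent.H48.NatSU
open Cfsg.Agent.H48.WittNeg (fl)
open Cfsg.Agent.H48.WittNeg renaming flip → fp
open Cfsg.Agent.H911.SLTwo (U Lo hh ww)
open Cfsg.Agent.H62.FrameSL (phiS)
open Cfsg Cfsg.Geo
open scoped MatrixGroups Matrix

universe u v w

theorem fp_fp {n : ℕ} (S : Finset (Fin n)) (x : Fin n × Bool) : fp S (fp S x) = x := by
  unfold fp
  by_cases h : x.1 ∈ S
  · rw [if_pos h, if_pos (by rw [ng_fst]; exact h), ng_ng]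
  · rw [if_neg h, if_neg h]

section flip

variable {K : Type} [Field K] [Finite K] {ν : Type} [Fintype ν] [DecidableEq ν]
  {H : HForm K (ν → K)} {n : ℕ} {Fr : Frame H (Fin n)} {T₀ : Type v} [Group T₀] {M : Model Fr T₀} {p : ℕ}
  [hp : Fact p.Prime] [hKp : CharP K p] {hA : AmbT Fr p M.I} {p0 : Fr.Adm} (hp0 : p0.c ≠ 0)
  {W : Type*} [Group W] {cs : CoxeterSystem (CoxeterMatrix.B n) W} {T : Subgroup M.I} {X : (Fin n → ℤ) → Subgroup M.I}
  (R : RGD cs (isCartan n) p T (NB hA p0) X)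
include hp0

theorem exists_flipI_single (d : ℕ) : ∀ i : Fin n, (i : ℕ) + d + 1 = n →
    ∃ (u : W) (g : M.I), Rp cs R.nsys u g ∧ Mono Fr g.1 (fp {i}) ∧
      ∀ x, ee (rep cs (isCartan n) u x) = fl {i} (ee x) := by
  induction d with
  | zero =>
    intro i hi
    have hi' : ¬ (i : ℕ) + 1 < n := by omega
    exact ⟨cs.simple i, NB hA p0 i, rp_simple cs _ i,
      (mono_nn hp0 i).congr (H48.WittNeg.sg_flip_last hi'), fun x => by rw [H48.WittNeg.ee_rep, H48.WittNeg.rf_last hi']⟩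
  | succ d ih =>
    intro i hi
    have hi' : (i : ℕ) + 1 < n := by omega
    obtain ⟨u, g, h1, h2, h3⟩ := ih ⟨i + 1, hi'⟩ (by simp only; omega)
    refine ⟨cs.simple i * u * cs.simple i, NB hA p0 i * g * NB hA p0 i, ?_, ?_, ?_⟩
    · exact ((rp_simple cs R.nsys i).mul h1).mul (rp_simple cs R.nsys i)
    · exact (((mono_nn hp0 i).mul h2).mul (mono_nn hp0 i)).congr fun x => H48.WittNeg.sg_flip hi' x
    · intro x
      rw [map_mul, Module.End.mul_apply, map_mul, Module.End.mul_apply, H48.WittNeg.ee_rep, h3, H48.WittNeg.ee_rep,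
        H48.WittNeg.rf_fl hi']

theorem exists_flipI (S : Finset (Fin n)) :
    ∃ (u : W) (g : M.I), Rp cs R.nsys u g ∧ Mono Fr g.1 (fp S) ∧
      ∀ x, ee (rep cs (isCartan n) u x) = fl S (ee x) := by
  induction S using Finset.induction_on with
  | empty =>
    refine ⟨1, 1, rp_one, Mono.one.congr fun x => (H48.WittNeg.flip_empty x).symm, fun x => ?_⟩
    rw [map_one, H48.WittNeg.fl_empty]
    rfl
  | insert i S hi ih =>
    obtain ⟨u, g, h1, h2, h3⟩ := ih
    obtain ⟨u', g', h1', h2', h3'⟩ := exists_flipI_single hp0 R (n - 1 - i) i (by have := i.2; omega)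
    refine ⟨u' * u, g' * g, h1'.mul h1, (h2'.mul h2).congr fun x => H48.WittNeg.flip_insert hi x, fun x => ?_⟩
    rw [map_mul, Module.End.mul_apply, h3', h3, H48.WittNeg.fl_insert hi]

end flip

/-- the rank one group of a node in `J` fixes `V^U` -/
theorem fix_node {I W Y : Type*} [Fintype I] [DecidableEq I] [Group W] [Group Y] {M : CoxeterMatrix I}
    {cs : CoxeterSystem M W} {A : I → I → ℤ} {h : IsCartan M A} {T : Subgroup Y}
    {X : (I → ℤ) → Subgroup Y} {k V : Type*} [Field k] [AddCommGroup V] [Module k V] {ρ : Y →* Module.End k V}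
    {E : Type*} [Field E] {i : I} {σ : SL(2, E) →* Y} (N : H650.Ppd.Nd T X i σ) (hi : i ∈ Jx cs h X ρ)
    (g : SL(2, E)) {v : V} (hv : v ∈ D cs h X ρ) : ρ (σ g) v = v := by
  let S : Subgroup SL(2, E) :=
    { carrier := {g | ∀ v ∈ D cs h X ρ, ρ (σ g) v = v}
      one_mem' := fun v _ => by rw [map_one, rho_one]
      mul_mem' := by
        intro a b ha hb v hv
        rw [map_mul, rho_mul, hb v hv, ha v hv]
      inv_mem' := by
        intro a ha v hv
        rw [map_inv]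
        conv_lhs => rw [← ha v hv]
        exact rho_inv_rho ρ (σ a) v }
  have h1 : g ∈ S := H650.Ppd.mem_of_UL (H := S) (fun t v hv => hv _ (RGD.le_Sup (S := RGD.Pos cs h) ⟨isRoot_sr cs h i, sr_nonneg i⟩
    ((N.up _).2 ⟨t, rfl⟩))) (fun t v hv => hi _ ((N.lo _).2 ⟨t, rfl⟩) v hv) g
  exact h1 v hv

section main

variable {K : Type} [Field K] [Fintype K] {q N n : ℕ} {hK : Fintype.card K = q ^ 2} {hN : 3 ≤ N} {W : WFrame (PU hK N) n}
variable {F : Type u} [Field F] [Finite F] {ι : Type} [Fintype ι] [DecidableEq ι] {P : Subgroup (GL ι F)}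
  {p : ℕ} [hp : Fact p.Prime] [hFp : CharP F p] [hKp : CharP K p] (hC : Core P)
  {hA : AmbT (toFrame W) p (modelSU hK hN W).I} {p0 : (toFrame W).Adm} (hp0 : p0.c ≠ 0)
  {φ : (modelSU hK hN W).I →* GL ι F}
  (C : Cov (CoxeterMatrix.B n).toCoxeterSystem (isCartan n) p (TB (modelSU hK hN W)) (NB hA p0)
        (XB (modelSU hK hN W)) P (MonoidHom.id (modelSU hK hN W).I) φ (NB hA p0))

/-- the long nodes of the covering group -/
theorem exists_ndI (hp0 : p0.c ≠ 0) (C : Cov (CoxeterMatrix.B n).toCoxeterSystem (isCartan n) p (TB (modelSU hK hN W)) (NB hA p0)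
        (XB (modelSU hK hN W)) P (MonoidHom.id (modelSU hK hN W).I) φ (NB hA p0)) {i : Fin n} (hi : (i : ℕ) + 1 < n) (hij : i ≠ ⟨i + 1, hi⟩) :
    ∃ σ : SL(2, K) →* (modelSU hK hN W).I,
      (∀ g, (σ g : (Fin N → K) ≃ₗ[K] (Fin N → K)) = phiS (toFrame W) hij g) ∧
      H650.Ppd.Nd ((TB (modelSU hK hN W)).comap (MonoidHom.id (modelSU hK hN W).I))
        (fun x => lft p (MonoidHom.id (modelSU hK hN W).I) (XB (modelSU hK hN W) x)) i σ ∧
      Rp (CoxeterMatrix.B n).toCoxeterSystem C.rgd.nsys ((CoxeterMatrix.B n).toCoxeterSystem.simple i) (σ ww) := by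
  have := finite_GL (K := K) (ν := Fin N)
  have hWf : Finite (CoxeterMatrix.B n).Group := TypeC.finite_W (CoxeterMatrix.B n).toCoxeterSystem
  obtain ⟨σ, hσ, N'⟩ := nd_long' hA.rg_le hi hij
  have N₁ := N'.lift C.ker C.cop (rgdB hA hp0 (CoxeterMatrix.B n).toCoxeterSystem) (σ := σ) (fun _ => rfl)
  refine ⟨σ, hσ, ⟨N₁.up, N₁.lo, N₁.tor⟩, ?_⟩
  have h1 : σ ww * (NB hA p0 i)⁻¹ ∈ (TB (modelSU hK hN W)).comap (MonoidHom.id (modelSU hK hN W).I) := by
    have h2 : Mono (toFrame W) ((σ ww : (modelSU hK hN W).I) : (Fin N → K) ≃ₗ[K] (Fin N → K)) (sg i) := by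
      rw [hσ]
      exact phiS_ww hi hij
    exact (tor_of_mono (σ ww).2 (NB hA p0 i).2 h2 (mono_nn hp0 i) :
      ((σ ww * (NB hA p0 i)⁻¹ : (modelSU hK hN W).I) : (Fin N → K) ≃ₗ[K] (Fin N → K)) ∈
        Tor (toFrame W) (modelSU hK hN W).I)
  have h2 := (rp_of_mem (cs := (CoxeterMatrix.B n).toCoxeterSystem) (hN := C.rgd.nsys) h1).mul
    (rp_simple (CoxeterMatrix.B n).toCoxeterSystem C.rgd.nsys i)
  rwa [one_mul, inv_mul_cancel_right] at h2

include hC C hp0

/-- **The bound for the last node.** -/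
theorem last_bound (hT : ∀ s ∈ (TB (modelSU hK hN W)).comap (MonoidHom.id (modelSU hK hN W).I),
      ∀ t ∈ (TB (modelSU hK hN W)).comap (MonoidHom.id (modelSU hK hN W).I), s * t = t * s)
    (hn : 3 ≤ n) {c : Fin n} (hc1 : (c : ℕ) + 1 = n)
    (hc : c ∉ JB (modelSU hK hN W) p (MonoidHom.id (modelSU hK hN W).I) φ)
    (hJ : ∀ i, i ∉ JB (modelSU hK hN W) p (MonoidHom.id (modelSU hK hN W).I) φ → i = c)
    {a f s : ℕ} (hF : Nat.card F = p ^ a) (hq : q = p ^ f) (hs : s * Nat.gcd a f = f) :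
    2 ^ (n - 3) * (2 + 2 * (3 + 3 * (4 ^ s - 2))) ≤ Fintype.card ι := by
  have hWf : Finite (CoxeterMatrix.B n).Group := TypeC.finite_W (CoxeterMatrix.B n).toCoxeterSystem
  have := finite_GL (K := K) (ν := Fin N)
  have hne := hC.nonempty
  have hchar : CharP (AlgebraicClosure F) p := charP_of_injective_algebraMap (algebraMap F _).injective p
  obtain ⟨hirr, hD⟩ := irr_B hC C hT
  have hamb := amb_U hK W
  let a' : Fin n := ⟨n - 3, by omega⟩
  let b' : Fin n := ⟨n - 2, by omega⟩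
  have L : Spin.Ls a' b' c := ⟨by simp only [a']; omega, by simp only [b']; omega, hc1⟩
  have hab := L.ab
  have hbc := L.bc
  have hac := L.ac
  have haJ : a' ∈ JB (modelSU hK hN W) p (MonoidHom.id (modelSU hK hN W).I) φ := by
    by_contra h; exact hac (hJ _ h)
  have hbJ : b' ∈ JB (modelSU hK hN W) p (MonoidHom.id (modelSU hK hN W).I) φ := by
    by_contra h; exact hbc (hJ _ h)
  choose u g hg1 hg2 hg3 using exists_flipI hp0 C.rgd
  have ha1 : (a' : ℕ) + 1 < n := by simp only [a']; omega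
  have hb1 : (b' : ℕ) + 1 < n := by simp only [b']; omega
  have hab' : (⟨a' + 1, ha1⟩ : Fin n) = b' := Fin.ext (by simp only [a', b']; omega)
  have hbc' : (⟨b' + 1, hb1⟩ : Fin n) = c := Fin.ext (by simp only [b']; omega)
  obtain ⟨σa, hσa, Na, hwa⟩ := exists_ndI hp0 C ha1 (by rw [hab']; exact hab)
  obtain ⟨σb, hσb, Nb, hwb⟩ := exists_ndI hp0 C hb1 (by rw [hbc']; exact hbc)
  -- the torus elements
  have hva : ∀ t x, ((σa (hh t) : (modelSU hK hN W).I) : (Fin N → K) ≃ₗ[K] (Fin N → K)) ((toFrame W).b x) =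
      ev (HU hK N) a' b' t x • (toFrame W).b x := by
    intro t x
    rw [hσa, phiS_b]
    congr 2
  have hvb : ∀ t x, ((σb (hh t) : (modelSU hK hN W).I) : (Fin N → K) ≃ₗ[K] (Fin N → K)) ((toFrame W).b x) =
      ev (HU hK N) b' c t x • (toFrame W).b x := by
    intro t x
    rw [hσb, phiS_b]
    congr 2
  have hva0 : ∀ t, ∀ w ∈ (toFrame W).V0, ((σa (hh t) : (modelSU hK hN W).I) : (Fin N → K) ≃ₗ[K] (Fin N → K)) w = w := by
    intro t w hw
    rw [hσa, phiS_V0 _ _ hw]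
  have hvb0 : ∀ t, ∀ w ∈ (toFrame W).V0, ((σb (hh t) : (modelSU hK hN W).I) : (Fin N → K) ≃ₗ[K] (Fin N → K)) w = w := by
    intro t w hw
    rw [hσb, phiS_V0 _ _ hw]
  have hnorm : ∀ t : Kˣ, t ^ (q + 1) = 1 → (t : K) * (HU hK N).σ t = 1 := by
    intro t ht
    have h1 := congrArg Units.val ht
    rw [Units.val_pow_eq_pow_val, pow_succ, Units.val_one, mul_comm] at h1
    exact h1
  have hmc : Mono (toFrame W) ((NB hA p0 c : (modelSU hK hN W).I) : (Fin N → K) ≃ₗ[K] (Fin N → K)) (sg c) := mono_nn hp0 c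
  have hmb : Mono (toFrame W) ((NB hA p0 b' : (modelSU hK hN W).I) : (Fin N → K) ≃ₗ[K] (Fin N → K)) (sg b') := mono_nn hp0 b'
  have key := Spin.spin_bound C.rgd hirr hD L hc hg3 (gu := g) hg1 (m := 4 ^ s) ?_ ?_
  · rwa [Module.finrank_fintype_fun_eq_card] at key
  · intro S hS
    have hrp : Rp (CoxeterMatrix.B n).toCoxeterSystem C.rgd.nsys
        (u S * Spin.wj (CoxeterMatrix.B n).toCoxeterSystem a' b' c 1) (g S * NB hA p0 c) :=
      (hg1 S).mul (rp_simple _ C.rgd.nsys c)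
    have hm : Mono (toFrame W) ((g S * NB hA p0 c : (modelSU hK hN W).I) : (Fin N → K) ≃ₗ[K] (Fin N → K))
        (fun x => fp S (sg c x)) := (hg2 S).mul hmc
    refine four_le_lrk C.rgd C.hGG hT C.range hC.absIrred Nb hrp ?_ ?_ hwb hK hF hq hs ?_
    · exact L.hmin u hg3 hS 1 b' (by simp)
    · intro h
      obtain ⟨yb, hyb⟩ := Spin.exists_y (CoxeterMatrix.B n).toCoxeterSystem b'
      change ee yb = Spin.de b' at hyb
      have e1 := L.sv_eq' (w := u S * Spin.wj (CoxeterMatrix.B n).toCoxeterSystem a' b' c 1) (v := 1)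
        (v' := (CoxeterMatrix.B n).toCoxeterSystem.simple b') hc (by rw [inv_one, one_mul]; exact h) yb
      rw [L.sv_mul, L.sv_wj u hg3, L.sv_mul, L.sv_wj u hg3, inv_simple, H48.WittNeg.ee_rep, hyb, L.rb_b, inv_one,
        map_one, Module.End.one_apply, hyb, L.F1 hS (Or.inr (Or.inl rfl)), L.F1 hS (Or.inr (Or.inr rfl)), if_pos rfl,
        if_neg hbc] at e1
      omega
    · intro t ht v hv
      have e : (g S * NB hA p0 c)⁻¹ * σb (hh t) * (g S * NB hA p0 c) = σb (hh t) := by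
        apply Subtype.ext
        refine eq_of_fix hamb (fun x => ?_) (fun w hw => ?_)
        · refine (conj_b (hvb t) hm x).trans ?_
          rw [hvb, ev_one L.hb L.hc hS hbc (hnorm t ht)]
        · refine (conj_V0 hA (g S * NB hA p0 c).2 (hvb0 t) hm (ρ := fun x => sg c (fp S x)) (fun x => ?_) hw).trans
            (hvb0 t w hw).symm
          rw [sg_sg, fp_fp]
      rw [e]
      exact fix_node Nb hbJ _ hv
  · intro S hS
    have hrp : Rp (CoxeterMatrix.B n).toCoxeterSystem C.rgd.nsys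
        (u S * Spin.wj (CoxeterMatrix.B n).toCoxeterSystem a' b' c 2) (g S * (NB hA p0 c * NB hA p0 b' * NB hA p0 c)) :=
      (hg1 S).mul (((rp_simple _ C.rgd.nsys c).mul (rp_simple _ C.rgd.nsys b')).mul (rp_simple _ C.rgd.nsys c))
    have hm : Mono (toFrame W) ((g S * (NB hA p0 c * NB hA p0 b' * NB hA p0 c) : (modelSU hK hN W).I) :
        (Fin N → K) ≃ₗ[K] (Fin N → K)) (fun x => fp S (sg c (sg b' (sg c x)))) :=
      (hg2 S).mul ((hmc.mul hmb).mul hmc)
    refine four_le_lrk C.rgd C.hGG hT C.range hC.absIrred Na hrp ?_ ?_ hwa hK hF hq hs ?_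
    · exact L.hmin u hg3 hS 2 a' (by simp)
    · intro h
      obtain ⟨ya, hya⟩ := Spin.exists_y (CoxeterMatrix.B n).toCoxeterSystem a'
      change ee ya = Spin.de a' at hya
      have e1 := L.sv_eq' (w := u S * Spin.wj (CoxeterMatrix.B n).toCoxeterSystem a' b' c 2) (v := 1)
        (v' := (CoxeterMatrix.B n).toCoxeterSystem.simple a') hc (by rw [inv_one, one_mul]; exact h) ya
      rw [L.sv_mul, L.sv_wj u hg3, L.sv_mul, L.sv_wj u hg3, inv_simple, H48.WittNeg.ee_rep, hya, L.ra_a, inv_one,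
        map_one, Module.End.one_apply, hya, L.F2 hS (Or.inl rfl), L.F2 hS (Or.inr (Or.inl rfl)), if_pos rfl,
        if_neg (Ne.symm hab)] at e1
      omega
    · intro t ht v hv
      have e : (g S * (NB hA p0 c * NB hA p0 b' * NB hA p0 c))⁻¹ * σa (hh t) *
          (g S * (NB hA p0 c * NB hA p0 b' * NB hA p0 c)) = σa (hh t) * σb (hh t) := by
        apply Subtype.ext
        refine eq_of_fix hamb (fun x => ?_) (fun w hw => ?_)
        · refine (conj_b (hva t) hm x).trans ?_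
          rw [ev_two L.ha L.hb L.hc hS hab hbc hac (hnorm t ht)]
          change _ = ((σa (hh t) : (modelSU hK hN W).I) : (Fin N → K) ≃ₗ[K] (Fin N → K))
            (((σb (hh t) : (modelSU hK hN W).I) : (Fin N → K) ≃ₗ[K] (Fin N → K)) ((toFrame W).b x))
          rw [hvb, map_smul, hva, smul_smul, mul_comm]
        · refine (conj_V0 hA (g S * (NB hA p0 c * NB hA p0 b' * NB hA p0 c)).2 (hva0 t) hm
            (ρ := fun x => sg c (sg b' (sg c (fp S x)))) (fun x => ?_) hw).trans ?_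
          · rw [sg_sg, sg_sg, sg_sg, fp_fp]
          · change w = ((σa (hh t) : (modelSU hK hN W).I) : (Fin N → K) ≃ₗ[K] (Fin N → K))
              (((σb (hh t) : (modelSU hK hN W).I) : (Fin N → K) ≃ₗ[K] (Fin N → K)) w)
            rw [hvb0 t w hw, hva0 t w hw]
      rw [e, rho_mul, fix_node Nb hbJ _ hv]
      exact fix_node Na haJ _ hv

end main

end Cfsg.Agent.H762.Ppd
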