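import Cfsg.Agent.H117.LeviB
import Cfsg.Agent.Nodes.WittAll
import Cfsg.Agent.H650.Ppd.Count
import Cfsg.Agent.H905.MdD

/-!
# Type `B_3`, the middle node (helper762, TEAM PPD)

`1 ∉ J`, `dim V^U = 1`. The 12 vertices `± e_i ± e_j` form 7 orbits of the Weyl group of `{0}`.

* `wl`, `gl` : the representatives of the orbits;
* **`mid_bound`** : `14 ≤ dim V`, if `4 ≤ lrk {0} (n_1 n_2 n_1)`.
-/

set_option autoImplicit false
set_option linter.unusedSectionVars false
set_option linter.style.haveILetI false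

namespace Cfsg.Agent.H762.Ppd.Mid

open CoxeterSystem Cfsg.Agent.ChevalleyStructure.CoxeterGeom Cfsg.Agent.Tits.Roots Cfsg.Agent.Tits.Core
  Cfsg.Agent.Nodes.Reps Cfsg.Agent.Nodes.BNOf Cfsg.Agent.Nodes.Bruhat Cfsg.Agent.Nodes.TypeC
  Cfsg.Agent.Omega.CR Cfsg.Agent.H905.Md Cfsg.Agent.H117.Levi
open Cfsg.Agent.H905.DC (co cf co_wordProd)
open Cfsg.Agent.H650.Ppd (co_eq_of_mem)

/-- the words of the representatives -/
def wl : Fin 7 → List (Fin 3) :=
  ![[], [1], [2, 1], [1, 2, 1], [1, 2, 0, 1], [2, 1, 2, 0, 1], [1, 0, 2, 1, 2, 0, 1]]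

/-- the action of a word -/
def ra (ω : List (Fin 3)) (v : Fin 3 → ℤ) : Fin 3 → ℤ :=
  ω.foldr (fun i v => fun k => v k - if k = i then ∑ m, A 3 i m * v m else 0) v

section comb

variable {W : Type*} [Group W] {cs : CoxeterSystem (CoxeterMatrix.B 3) W}

theorem mem_WJ_single {w : W} {i : Fin 3} (hw : w ∈ WJ cs {i}) : w = 1 ∨ w = cs.simple i := by
  unfold WJ at hw
  induction hw using Subgroup.closure_induction with
  | mem x hx =>
    obtain ⟨j, hj, rfl⟩ := hx
    rw [Set.mem_singleton_iff] at hj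
    rw [hj]
    exact Or.inr rfl
  | one => exact Or.inl rfl
  | mul x y _ _ hx hy =>
    rcases hx with rfl | rfl <;> rcases hy with rfl | rfl
    · left; rw [one_mul]
    · right; rw [one_mul]
    · right; rw [mul_one]
    · left; rw [cs.simple_mul_simple_self]
  | inv x _ hx =>
    rcases hx with rfl | rfl
    · left; rw [inv_one]
    · right; rw [inv_simple]

theorem rep_wordProd (ω : List (Fin 3)) (v : Fin 3 → ℤ) : rep cs (isCartan 3) (cs.wordProd ω) v = ra ω v := by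
  induction ω with
  | nil => rw [cs.wordProd_nil, map_one, Module.End.one_apply]; rfl
  | cons i ω ih =>
    rw [cs.wordProd_cons, rep_mul_apply, ih, rep_simple, refl_apply]
    funext k
    change _ = ra ω v k - if k = i then ∑ m, A 3 i m * ra ω v m else 0
    rw [Pi.sub_apply]
    congr 1
    by_cases hk : k = i
    · subst hk
      rw [if_pos rfl, Pi.single_eq_same]
      rfl
    · rw [if_neg hk, Pi.single_eq_of_ne hk]

theorem wp_inv (ω : List (Fin 3)) : (cs.wordProd ω)⁻¹ = cs.wordProd ω.reverse := (cs.wordProd_reverse ω).symm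

theorem co_inv (ω : List (Fin 3)) : co cs (isCartan 3) 1 (cs.wordProd ω)⁻¹ = cf (A 3) 1 ω.reverse := by
  rw [wp_inv, co_wordProd]

theorem co_inv' (i : Fin 3) (ω : List (Fin 3)) :
    co cs (isCartan 3) 1 (cs.simple i * cs.wordProd ω)⁻¹ = cf (A 3) 1 (i :: ω).reverse := by
  rw [← cs.wordProd_cons, wp_inv, co_wordProd]

theorem hmin (a : Fin 7) : ∀ i ∈ ({0} : Set (Fin 3)), 0 ≤ rep cs (isCartan 3) (cs.wordProd (wl a))⁻¹ (sr i) := by
  intro i hi
  rw [Set.mem_singleton_iff] at hi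
  subst hi
  rw [wp_inv, rep_wordProd]
  have h1 : ∀ a : Fin 7, ∀ k : Fin 3, 0 ≤ ra (wl a).reverse (fun k => if k = 0 then 1 else 0) k := by decide +kernel
  have h2 : (sr (0 : Fin 3) : Fin 3 → ℤ) = fun k => if k = 0 then 1 else 0 := by
    funext k
    by_cases hk : k = 0
    · subst hk; rw [sr_self, if_pos rfl]
    · rw [sr_ne hk, if_neg hk]
  intro k
  rw [h2]
  exact h1 a k

theorem hsep {J : Set (Fin 3)} (hJ : (1 : Fin 3) ∉ J) (a a' : Fin 7) (haa : a ≠ a') (x : W)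
    (hx : x ∈ WJ cs ({0} : Set (Fin 3))) : (cs.wordProd (wl a))⁻¹ * x * cs.wordProd (wl a') ∉ WJ cs J := by
  intro h
  rw [mul_assoc] at h
  have h1 := co_eq_of_mem (h := isCartan 3) hJ h
  have k1 : ∀ a a' : Fin 7, a ≠ a' → cf (A 3) 1 (wl a).reverse ≠ cf (A 3) 1 (wl a').reverse := by decide +kernel
  have k2 : ∀ a a' : Fin 7, a ≠ a' → cf (A 3) 1 (wl a).reverse ≠ cf (A 3) 1 (0 :: wl a').reverse := by decide +kernel
  rcases mem_WJ_single hx with rfl | rfl
  · rw [one_mul, co_inv, co_inv] at h1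
    exact k1 a a' haa h1
  · rw [co_inv, co_inv'] at h1
    exact k2 a a' haa h1

theorem hsep' {J : Set (Fin 3)} (hJ : (1 : Fin 3) ∉ J) (a : Fin 7) (ha : a = 1 ∨ a = 2 ∨ a = 3 ∨ a = 4 ∨ a = 5) :
    (cs.wordProd (wl a))⁻¹ * cs.simple 0 * cs.wordProd (wl a) ∉ WJ cs J := by
  intro h
  rw [mul_assoc] at h
  have h1 := co_eq_of_mem (h := isCartan 3) hJ h
  have k2 : ∀ a : Fin 7, a = 1 ∨ a = 2 ∨ a = 3 ∨ a = 4 ∨ a = 5 → cf (A 3) 1 (wl a).reverse ≠ cf (A 3) 1 (0 :: wl a).reverse := by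
    decide +kernel
  rw [co_inv, co_inv'] at h1
  exact k2 a ha h1

end comb

section main

variable {W Y : Type*} [Group W] [Group Y] {cs : CoxeterSystem (CoxeterMatrix.B 3) W} {p : ℕ} {T : Subgroup Y}
  {nn : Fin 3 → Y} {X : (Fin 3 → ℤ) → Subgroup Y} {k V : Type*} [Field k] [AddCommGroup V] [Module k V]
variable (R : RGD cs (isCartan 3) p T nn X) [Finite Y] [Finite W] [Fact p.Prime] [CharP k p]
  {ρ : Y →* Module.End k V} [FiniteDimensional k V] [Nontrivial V]
  (hirr : ∀ L : Submodule k V, Ivt ρ (GG cs (isCartan 3) T X) L → L = ⊥ ∨ L = ⊤)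
  (hD : Module.finrank k (D cs (isCartan 3) X ρ) = 1)

/-- the representatives -/
def gl (nn : Fin 3 → Y) (ω : List (Fin 3)) : Y := (ω.map nn).prod

omit [Finite Y] [Finite W] [Fact p.Prime] [CharP k p] [FiniteDimensional k V] [Nontrivial V] in
theorem rp_gl (ω : List (Fin 3)) : Rp cs R.nsys (cs.wordProd ω) (gl nn ω) := by
  induction ω with
  | nil => rw [cs.wordProd_nil]; exact rp_one
  | cons i ω ih =>
    rw [cs.wordProd_cons]
    unfold gl
    rw [List.map_cons, List.prod_cons]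
    exact (rp_simple cs R.nsys i).mul ih

include R hirr hD

theorem mid_bound (h1 : (1 : Fin 3) ∉ Jx cs (isCartan 3) X ρ)
    (hm : 4 ≤ lrk cs (isCartan 3) T X ρ {0} (nn 1 * nn 2 * nn 1)) : 14 ≤ Module.finrank k V := by
  have hg := fun a : Fin 7 => rp_gl R (wl a)
  have key := dim_ge_levi R hirr ({0} : Set (Fin 3)) (α := Fin 7) (fun a => cs.wordProd (wl a)) (fun a => gl nn (wl a))
    hg hmin (hsep h1)
  have e1 : ∀ a : Fin 7, 1 ≤ lrk cs (isCartan 3) T X ρ {0} (gl nn (wl a)) := fun a => one_le_lrk R hirr _ _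
  have e2 : ∀ a : Fin 7, a = 1 ∨ a = 2 ∨ a = 3 ∨ a = 4 ∨ a = 5 → 2 ≤ lrk cs (isCartan 3) T X ρ {0} (gl nn (wl a)) := by
    intro a ha
    have hs := hsep' (cs := cs) h1 a ha
    have h2 := lrk_ge R hirr (hg a) (hmin a) (α := Fin 2) (β := Fin 0) ![1, cs.simple 0]
      (by
        have hm' : cs.simple 0 ∈ WJ cs ({0} : Set (Fin 3)) := by
          unfold WJ
          exact Subgroup.subset_closure ⟨0, rfl, rfl⟩
        intro x; fin_cases x; exacts [one_mem _, hm'])
      (by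
        intro x x' hxx h
        fin_cases x <;> fin_cases x'
        · exact hxx rfl
        · apply hs
          simpa [mul_assoc] using h
        · apply hs
          simpa [mul_assoc] using h
        · exact hxx rfl)
      Fin.elim0 (fun b => b.elim0) Fin.elim0 (fun b => b.elim0) (fun b => b.elim0)
    rw [hD] at h2
    simpa using h2
  have e3 : gl nn (wl 3) = nn 1 * nn 2 * nn 1 := by
    simp [gl, wl, mul_assoc]
  have e4 : 4 ≤ lrk cs (isCartan 3) T X ρ {0} (gl nn (wl 3)) := by rw [e3]; exact hm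
  have a0 := e1 0
  have a1 := e2 1 (by simp)
  have a2 := e2 2 (by simp)
  have a4 := e2 4 (by simp)
  have a5 := e2 5 (by simp)
  have a6 := e1 6
  simp only [Fin.sum_univ_succ, Fin.sum_univ_zero, Fin.isValue] at key
  change lrk cs (isCartan 3) T X ρ {0} (gl nn (wl 0)) + (lrk cs (isCartan 3) T X ρ {0} (gl nn (wl 1)) +
    (lrk cs (isCartan 3) T X ρ {0} (gl nn (wl 2)) + (lrk cs (isCartan 3) T X ρ {0} (gl nn (wl 3)) +
    (lrk cs (isCartan 3) T X ρ {0} (gl nn (wl 4)) + (lrk cs (isCartan 3) T X ρ {0} (gl nn (wl 5)) +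
    (lrk cs (isCartan 3) T X ρ {0} (gl nn (wl 6)) + 0)))))) ≤ _ at key
  omega

end main

end Cfsg.Agent.H762.Ppd.Mid
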