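import Cfsg.Agent.H762.Ppd.Last
import Cfsg.Agent.H762.Ppd.Mid

/-!
# `SU_N(K)` of rank 3: the bound for the middle node (helper762, TEAM PPD)

**`mid_bound_su`** : `N = 6, 7`, the node `1` is the only node outside `J`: `14 ≤ |ι|`.
-/

set_option autoImplicit false
set_option linter.unusedSectionVars false
set_option linter.style.haveILetI false

namespace Cfsg.Agent.H762.Ppd

open CoxeterSystem Cfsg.Agent.ChevalleyStructure.CoxeterGeom Cfsg.Agent.Tits.Roots Cfsg.Agent.Tits.Core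
  Cfsg.Agent.Nodes.Reps Cfsg.Agent.Nodes.BNOf Cfsg.Agent.Nodes.Bruhat Cfsg.Agent.Nodes.RGDLib
open Cfsg.Agent.Nodes Cfsg.Agent.Nodes.WittRoot Cfsg.Agent.Nodes.WittRGD Cfsg.Agent.Nodes.WittAll Cfsg.Agent.Nodes.WittU
open Cfsg.Agent.Nodes.TypeC (isCartan sg sg_up sg_down sg_last sg_of_ne sg_sg ng ng_ng ng_fst ee ee_injective ee_add)
open Cfsg.Agent.LieClassical.HermBasic Cfsg.Agent.LieClassical.HermSiegel
open Cfsg.Agent.TitsThree.Siegel Cfsg.Agent.TitsThree.SiegelGen Cfsg.Agent.TitsThree.WittFrame Cfsg.Agent.TitsThree.FrameCN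
  Cfsg.Agent.TitsThree.WBridge Cfsg.Agent.TitsThree.KSideU Cfsg.Agent.TitsThree.KSideUDesc Cfsg.Agent.TitsThree
open Cfsg.Agent.H915.LD Cfsg.Agent.H911 Cfsg.Agent.H905.Md Cfsg.Agent.H925.Nat Cfsg.Agent.Nodes.RGDLift
open Cfsg.Agent.H156.Ppd (Cov lrep exists_cov)
open Cfsg.Agent.Omega.CR Cfsg.Agent.Omega.FOne.Lift.Sd
open Cfsg.Agent.H948.Ppd Cfsg.Agent.H117.Levi
open Cfsg.Agent.H61.SUCross Cfsg.Agent.H48.NatSU
open Cfsg.Agent.H911.SLTwo (U Lo hh ww)
open Cfsg.Agent.H62.FrameSL (phiS)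
open Cfsg Cfsg.Geo
open scoped MatrixGroups Matrix

universe u v w

theorem ev_three {F : Type*} [Field F] {V : Type*} [AddCommGroup V] [Module F V] {H : HForm F V} {t : Fˣ}
    (ht : (t : F) * H.σ t = 1) (x : Fin 3 × Bool) :
    ev H 0 1 t (sg 1 (sg 2 (sg 1 x))) = ev H 0 1 t x := by
  have h1 : ∀ s, sg (1 : Fin 3) (1, s) = (2, s) := by decide
  have h2 : ∀ s, sg (1 : Fin 3) (2, s) = (1, s) := by decide
  have h3 : ∀ s, sg (1 : Fin 3) (0, s) = (0, s) := by decide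
  have h4 : ∀ s, sg (2 : Fin 3) (2, s) = (2, !s) := by decide
  have h5 : ∀ s, sg (2 : Fin 3) (0, s) = (0, s) := by decide
  have h6 : ∀ s, sg (2 : Fin 3) (1, s) = (1, s) := by decide
  obtain ⟨k, s⟩ := x
  fin_cases k
  · change ev H 0 1 t (sg 1 (sg 2 (sg 1 (0, s)))) = ev H 0 1 t (0, s)
    rw [h3, h5, h3]
  · change ev H 0 1 t (sg 1 (sg 2 (sg 1 (1, s)))) = ev H 0 1 t (1, s)
    rw [h1, h4, h2, ev_j (by decide), ev_j (by decide), sig_eq ht]
    cases s <;> rfl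
  · change ev H 0 1 t (sg 1 (sg 2 (sg 1 (2, s)))) = ev H 0 1 t (2, s)
    rw [h2, h6, h1]

variable {K : Type} [Field K] [Fintype K] {q N : ℕ} {hK : Fintype.card K = q ^ 2} {hN : 3 ≤ N} {W : WFrame (PU hK N) 3}
variable {F : Type u} [Field F] [Finite F] {ι : Type} [Fintype ι] [DecidableEq ι] {P : Subgroup (GL ι F)}
  {p : ℕ} [hp : Fact p.Prime] [hFp : CharP F p] [hKp : CharP K p] (hC : Core P)
  {hA : AmbT (toFrame W) p (modelSU hK hN W).I} {p0 : (toFrame W).Adm} (hp0 : p0.c ≠ 0)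
  {φ : (modelSU hK hN W).I →* GL ι F}
  (C : Cov (CoxeterMatrix.B 3).toCoxeterSystem (isCartan 3) p (TB (modelSU hK hN W)) (NB hA p0)
        (XB (modelSU hK hN W)) P (MonoidHom.id (modelSU hK hN W).I) φ (NB hA p0))
include hC C hp0

theorem mid_bound_su (hT : ∀ s ∈ (TB (modelSU hK hN W)).comap (MonoidHom.id (modelSU hK hN W).I),
      ∀ t ∈ (TB (modelSU hK hN W)).comap (MonoidHom.id (modelSU hK hN W).I), s * t = t * s)
    (h1 : (1 : Fin 3) ∉ JB (modelSU hK hN W) p (MonoidHom.id (modelSU hK hN W).I) φ)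
    (h0 : (0 : Fin 3) ∈ JB (modelSU hK hN W) p (MonoidHom.id (modelSU hK hN W).I) φ)
    {a f : ℕ} (hF : Nat.card F = p ^ a) (hq : q = p ^ f) (hs : Nat.gcd a f = f) :
    14 ≤ Fintype.card ι := by
  have hWf : Finite (CoxeterMatrix.B 3).Group := TypeC.finite_W (CoxeterMatrix.B 3).toCoxeterSystem
  have := finite_GL (K := K) (ν := Fin N)
  have hne := hC.nonempty
  have hchar : CharP (AlgebraicClosure F) p := charP_of_injective_algebraMap (algebraMap F _).injective p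
  obtain ⟨hirr, hD⟩ := irr_B hC C hT
  have hamb := amb_U hK W
  have h01 : (⟨((0 : Fin 3) : ℕ) + 1, by norm_num⟩ : Fin 3) = 1 := rfl
  obtain ⟨σ, hσ, N₀, hw⟩ := exists_ndI hp0 C (i := (0 : Fin 3)) (by norm_num) (by rw [h01]; decide)
  have hv : ∀ t x, ((σ (hh t) : (modelSU hK hN W).I) : (Fin N → K) ≃ₗ[K] (Fin N → K)) ((toFrame W).b x) =
      ev (HU hK N) 0 1 t x • (toFrame W).b x := by
    intro t x
    rw [hσ, phiS_b]
    rfl
  have hv0 : ∀ t, ∀ w ∈ (toFrame W).V0, ((σ (hh t) : (modelSU hK hN W).I) : (Fin N → K) ≃ₗ[K] (Fin N → K)) w = w := by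
    intro t w hw
    rw [hσ, phiS_V0 _ _ hw]
  have hnorm : ∀ t : Kˣ, t ^ (q + 1) = 1 → (t : K) * (HU hK N).σ t = 1 := by
    intro t ht
    have h1 := congrArg Units.val ht
    rw [Units.val_pow_eq_pow_val, pow_succ, Units.val_one, mul_comm] at h1
    exact h1
  have hm1 : Mono (toFrame W) ((NB hA p0 1 : (modelSU hK hN W).I) : (Fin N → K) ≃ₗ[K] (Fin N → K)) (sg 1) := mono_nn hp0 1
  have hm2 : Mono (toFrame W) ((NB hA p0 2 : (modelSU hK hN W).I) : (Fin N → K) ≃ₗ[K] (Fin N → K)) (sg 2) := mono_nn hp0 2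
  have hm : Mono (toFrame W) ((NB hA p0 1 * NB hA p0 2 * NB hA p0 1 : (modelSU hK hN W).I) :
      (Fin N → K) ≃ₗ[K] (Fin N → K)) (fun x => sg 1 (sg 2 (sg 1 x))) := (hm1.mul hm2).mul hm1
  have hrp : Rp (CoxeterMatrix.B 3).toCoxeterSystem C.rgd.nsys
      ((CoxeterMatrix.B 3).toCoxeterSystem.wordProd (Mid.wl 3)) (NB hA p0 1 * NB hA p0 2 * NB hA p0 1) := by
    have h2 := Mid.rp_gl C.rgd (Mid.wl 3)
    have h3 : Mid.gl (NB hA p0) (Mid.wl 3) = NB hA p0 1 * NB hA p0 2 * NB hA p0 1 := by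
      simp [Mid.gl, Mid.wl, mul_assoc]
    rwa [h3] at h2
  obtain ⟨g, hgd⟩ : ∃ g, g = NB hA p0 1 * NB hA p0 2 * NB hA p0 1 := ⟨_, rfl⟩
  rw [← hgd] at hm hrp
  have key := Mid.mid_bound C.rgd hirr hD h1 ?_
  · rwa [Module.finrank_fintype_fun_eq_card] at key
  · rw [← hgd]
    have h4 := four_le_lrk C.rgd C.hGG hT C.range hC.absIrred N₀ hrp (Mid.hmin 3 0 rfl)
      (Mid.hsep' h1 3 (by simp)) hw hK hF hq (s := 1) (by rw [one_mul]; exact hs) (fun t ht v hvD => by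
        have e : g⁻¹ * σ (hh t) * g = σ (hh t) := by
          apply Subtype.ext
          refine eq_of_fix hamb (fun x => ?_) (fun w hw => ?_)
          · refine (conj_b (hv t) hm x).trans ?_
            rw [hv, ev_three (hnorm t ht)]
          · refine (conj_V0 hA g.2 (hv0 t) hm
              (ρ := fun x => sg 1 (sg 2 (sg 1 x))) (fun x => ?_) hw).trans (hv0 t w hw).symm
            rw [sg_sg, sg_sg, sg_sg]
        rw [e]
        exact fix_node N₀ h0 _ hvD)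
    rwa [pow_one] at h4

end Cfsg.Agent.H762.Ppd
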