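import Cfsg.Agent.H650.Ppd.Edge

/-!
# Exponents of characters trivial on the elements of norm one (helper762, TEAM PPD)

`|K| = q ^ 2`, `q = p ^ f`, `j : K → k`, `ψ : Kˣ → k` multiplicative, trivial on `t ^ (q + 1) = 1`, `ψ ^ p ^ a = ψ`:

* `exists_exp` : `ψ(t) = j(t) ^ c`, `1 ≤ c ≤ |K| - 1`;
* **`exists_exp_norm`** : `4 ^ s ≤ |SS p c|`, if `s * gcd a f = f`.
-/

set_option autoImplicit false

namespace Cfsg.Agent.H762.Ppd

open Cfsg.Agent.H875.Fn (SS card_SS_geom two_le_card_SS dvd_of_pow_eq)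
open Cfsg.Agent.H650.Ppd (exists_digits)

variable {K : Type*} [Field K] [Fintype K] {k : Type*} [Field k] (j : K →+* k)

theorem exists_exp (ψ : Kˣ →* k) :
    ∃ c, 1 ≤ c ∧ c ≤ Fintype.card K - 1 ∧ ∀ t : Kˣ, ψ t = j (t : K) ^ c := by
  classical
  obtain ⟨g, hg⟩ := IsCyclic.exists_monoid_generator (α := Kˣ)
  have hg' : ∀ x, x ∈ Subgroup.zpowers g := fun x => by
    obtain ⟨l, hl⟩ := Submonoid.mem_powers_iff _ _ |>.1 (hg x)
    exact Subgroup.mem_zpowers_iff.2 ⟨l, by rw [zpow_natCast]; exact hl⟩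
  have ho : orderOf g = Fintype.card K - 1 := by
    rw [orderOf_eq_card_of_forall_mem_zpowers hg', Nat.card_eq_fintype_card, Fintype.card_units]
  have hm : 0 < Fintype.card K - 1 := by
    have := Fintype.one_lt_card (α := K)
    omega
  set m := Fintype.card K - 1 with hmdef
  have hjg : IsPrimitiveRoot (j (g : K)) m := by
    rw [← ho]
    have h1 := IsPrimitiveRoot.orderOf g
    have h2 : IsPrimitiveRoot (g : K) (orderOf g) := IsPrimitiveRoot.coe_units_iff.2 h1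
    exact h2.map_of_injective j.injective
  have h1 : ψ g ^ m = 1 := by rw [← map_pow, ← ho, pow_orderOf_eq_one, map_one]
  haveI : NeZero m := ⟨hm.ne'⟩
  obtain ⟨i, hi, e⟩ := hjg.eq_pow_of_pow_eq_one h1
  have key : ∀ t : Kˣ, ψ t = j (t : K) ^ i := by
    intro t
    obtain ⟨l, rfl⟩ := Submonoid.mem_powers_iff _ _ |>.1 (hg t)
    rw [map_pow, ← e, Units.val_pow_eq_pow_val, map_pow, ← pow_mul, ← pow_mul, mul_comm]
  by_cases hi0 : i = 0
  · refine ⟨m, hm, le_rfl, fun t => ?_⟩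
    rw [key t, hi0, pow_zero, ← map_pow, ← Units.val_pow_eq_pow_val]
    have h2 : t ^ m = 1 := by
      obtain ⟨l, rfl⟩ := Submonoid.mem_powers_iff _ _ |>.1 (hg t)
      rw [← pow_mul, mul_comm, pow_mul, ← ho, pow_orderOf_eq_one, one_pow]
    rw [h2, Units.val_one, map_one]
  · exact ⟨i, by omega, by omega, key⟩

theorem exists_exp_norm {q : ℕ} (hK : Fintype.card K = q ^ 2) (p : ℕ) [hp : Fact p.Prime] (ψ : Kˣ →* k)
    (hn : ∀ t : Kˣ, t ^ (q + 1) = 1 → ψ t = 1) {a f s : ℕ} (hq : q = p ^ f) (hF : ∀ t, ψ t ^ p ^ a = ψ t)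
    (hs : s * Nat.gcd a f = f) :
    ∃ c, 1 ≤ c ∧ c ≤ Fintype.card K - 1 ∧ (∀ t : Kˣ, ψ t = j (t : K) ^ c) ∧ 4 ^ s ≤ (SS p c).card := by
  classical
  obtain ⟨c, hc1, hc2, hc⟩ := exists_exp j ψ
  have hq2 : 2 ≤ q := by
    have h1 := Fintype.one_lt_card (α := K)
    rw [hK] at h1
    by_contra h
    have h2 : q = 0 ∨ q = 1 := by omega
    rcases h2 with rfl | rfl <;> simp at h1
  have hfac : Fintype.card K - 1 = (q + 1) * (q - 1) := by
    rw [hK]
    have := Nat.sq_sub_sq q 1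
    rwa [one_pow] at this
  have hf0 : f ≠ 0 := by
    rintro rfl
    rw [pow_zero] at hq
    omega
  -- `q + 1 ∣ c`
  have hd1 : (q + 1) ∣ c := by
    obtain ⟨g, hg⟩ := IsCyclic.exists_generator (α := Kˣ)
    have ho : orderOf g = Fintype.card K - 1 := by
      rw [orderOf_eq_card_of_forall_mem_zpowers hg, Nat.card_eq_fintype_card, Fintype.card_units]
    have h1 : (g ^ (q - 1)) ^ (q + 1) = 1 := by
      rw [← pow_mul, mul_comm, ← hfac, ← ho, pow_orderOf_eq_one]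
    have h2 := hn _ h1
    rw [hc, ← map_pow, ← Units.val_pow_eq_pow_val] at h2
    have h3 : (((g ^ (q - 1)) ^ c : Kˣ) : K) = 1 := j.injective (h2.trans (map_one j).symm)
    have h4 : (g ^ (q - 1)) ^ c = 1 := Units.ext h3
    rw [← pow_mul, ← orderOf_dvd_iff_pow_eq_one, ho, hfac, mul_comm (q - 1) c] at h4
    exact (Nat.mul_dvd_mul_iff_right (by omega)).1 h4
  obtain ⟨c', rfl⟩ := hd1
  have hc'0 : c' ≠ 0 := by
    rintro rfl
    rw [mul_zero] at hc1
    omega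
  have hc'le : c' ≤ q - 1 := by
    rw [hfac] at hc2
    exact Nat.le_of_mul_le_mul_left hc2 (by omega)
  have hQ : 1 ≤ p ^ a := Nat.one_le_pow _ _ hp.out.pos
  have hd2 := dvd_of_pow_eq (j := j) (r := (q + 1) * c') (Q := p ^ a) (fun t => by
    rw [← hc, ← hF t, hc, ← pow_mul, ← pow_mul, mul_comm]) hQ
  rw [hfac, mul_assoc, Nat.mul_dvd_mul_iff_left (by omega)] at hd2
  have hd3 : p ^ f - 1 ∣ c' * (p ^ Nat.gcd a f - 1) := by
    rw [hq] at hd2
    have h2 := Nat.dvd_gcd hd2 (Dvd.intro_left c' rfl)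
    rwa [Nat.gcd_mul_left, Nat.pow_sub_one_gcd_pow_sub_one] at h2
  obtain ⟨r₀, h0, -, -, h3⟩ := exists_digits p (Nat.gcd_ne_zero_right hf0) (by rw [mul_comm]; exact hs.symm)
    hc'0 (by rw [← hq]; exact hc'le) hd3
  refine ⟨(q + 1) * c', hc1, hc2, hc, ?_⟩
  have h4 : (q + 1) * c' = c' * ∑ i ∈ Finset.range 2, (p ^ f) ^ i := by
    rw [Finset.sum_range_succ, Finset.sum_range_one, pow_zero, pow_one, ← hq]
    ring
  rw [h4, card_SS_geom (by rw [← hq]; omega) 2, h3]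
  have h5 : 2 ^ s ≤ (SS p r₀).card ^ s := Nat.pow_le_pow_left (two_le_card_SS h0) s
  calc 4 ^ s = (2 ^ s) ^ 2 := by rw [← pow_mul, mul_comm, pow_mul]; norm_num
    _ ≤ _ := Nat.pow_le_pow_left h5 2

end Cfsg.Agent.H762.Ppd
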