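import Cfsg.Agent.H117.LeviB
import Cfsg.Agent.H48.WittNeg
import Cfsg.Agent.H905.MdD

/-!
# The last node in type `B_n`: the bound by the Levi subgroup of the last two long nodes (helper762, TEAM PPD)

`a, b, c` the last three indices, `c ∉ J`. The vertices are the sign vectors. For `S` a set of indices without `a, b, c`:
the orbits of `W_{a, b}` of the sign vectors `S + (0, 1, 2, 3 signs)`.

* **`spin_bound`** : `2 ^ (n - 3) * (6 m - 4) ≤ dim V`, if `m ≤ lrk {b} (gu S * n c)` and
  `m ≤ lrk {a} (gu S * (n c * n b * n c))`.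
-/

set_option autoImplicit false
set_option linter.unusedSectionVars false
set_option linter.style.haveILetI false

namespace Cfsg.Agent.H762.Ppd.Spin

open CoxeterSystem Cfsg.Agent.ChevalleyStructure.CoxeterGeom Cfsg.Agent.Tits.Roots Cfsg.Agent.Tits.Core
  Cfsg.Agent.Nodes.Reps Cfsg.Agent.Nodes.BNOf Cfsg.Agent.Nodes.Bruhat Cfsg.Agent.Nodes.TypeC
  Cfsg.Agent.Omega.CR Cfsg.Agent.H905.Md Cfsg.Agent.H117.Levi
open Cfsg.Agent.H48.WittNeg (rf rf_last rf_up ee_rep fl)

variable {n : ℕ}

/-- the last three indices -/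
structure Ls (a b c : Fin n) : Prop where
  ha : (a : ℕ) + 3 = n
  hb : (b : ℕ) + 2 = n
  hc : (c : ℕ) + 1 = n

/-! ### the coordinates -/

section coord

variable {a b c : Fin n} (L : Ls a b c)
include L

theorem Ls.ab : a ≠ b := by
  intro h
  have h1 := L.ha
  have h2 := L.hb
  rw [h] at h1
  omega

theorem Ls.bc : b ≠ c := by
  intro h
  have h1 := L.hb
  have h2 := L.hc
  rw [h] at h1
  omega

theorem Ls.ac : a ≠ c := by
  intro h
  have h1 := L.ha
  have h2 := L.hc
  rw [h] at h1
  omega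

theorem Ls.rfa (v : Fin n → ℤ) (k : Fin n) : rf a v k = if k = a then v b else if k = b then v a else v k := by
  have hi : (a : ℕ) + 1 < n := by have := L.ha; omega
  rw [rf_up hi]
  have h1 : (⟨a + 1, hi⟩ : Fin n) = b := Fin.ext (by have := L.ha; have := L.hb; simp only; omega)
  rw [h1]

theorem Ls.rfb (v : Fin n → ℤ) (k : Fin n) : rf b v k = if k = b then v c else if k = c then v b else v k := by
  have hi : (b : ℕ) + 1 < n := by have := L.hb; omega
  rw [rf_up hi]
  have h1 : (⟨b + 1, hi⟩ : Fin n) = c := Fin.ext (by have := L.hb; have := L.hc; simp only; omega)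
  rw [h1]

theorem Ls.rfc (v : Fin n → ℤ) (k : Fin n) : rf c v k = if k = c then - v c else v k := by
  rw [rf_last (by have := L.hc; omega)]
  unfold fl
  by_cases h : k = c
  · subst h
    rw [if_pos (Finset.mem_singleton_self _), if_pos rfl]
  · rw [if_neg (by rw [Finset.mem_singleton]; exact h), if_neg h]

theorem Ls.bta (k : Fin n) : bt a k = if k = a then 1 else if k = b then -1 else 0 := by
  have hi : (a : ℕ) + 1 < n := by have := L.ha; omega
  have h2 : (k : ℕ) = a + 1 ↔ k = b := by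
    rw [Fin.ext_iff]
    have := L.ha; have := L.hb; omega
  rw [bt_apply, if_pos hi]
  simp only [h2, ← Fin.ext_iff]

theorem Ls.btb (k : Fin n) : bt b k = if k = b then 1 else if k = c then -1 else 0 := by
  have hi : (b : ℕ) + 1 < n := by have := L.hb; omega
  have h2 : (k : ℕ) = b + 1 ↔ k = c := by
    rw [Fin.ext_iff]
    have := L.hb; have := L.hc; omega
  rw [bt_apply, if_pos hi]
  simp only [h2, ← Fin.ext_iff]

theorem Ls.btc (k : Fin n) : bt c k = if k = c then 2 else 0 := by
  have hi : ¬ (c : ℕ) + 1 < n := by have := L.hc; omega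
  rw [bt_apply, if_neg hi]
  simp only [← Fin.ext_iff]

omit L in
/-- the sum of the coordinates -/
def Sm (v : Fin n → ℤ) : ℤ := ∑ k, v k

omit L in
theorem Sm_wt (x : Fin n × Bool) : Sm (wt x) = if x.2 then 1 else -1 := by
  unfold Sm
  rw [Finset.sum_eq_single x.1]
  · rw [wt_apply, if_pos rfl]
  · intro k _ hk
    rw [wt_apply, if_neg hk]
  · intro h
    exact absurd (Finset.mem_univ _) h

omit L in
theorem Sm_add (u v : Fin n → ℤ) : Sm (u + v) = Sm u + Sm v := by
  simp only [Sm, Pi.add_apply, Finset.sum_add_distrib]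

omit L in
theorem Sm_sub (u v : Fin n → ℤ) : Sm (u - v) = Sm u - Sm v := by
  simp only [Sm, Pi.sub_apply, Finset.sum_sub_distrib]

omit L in
theorem Sm_smul (r : ℤ) (v : Fin n → ℤ) : Sm (r • v) = r * Sm v := by
  simp only [Sm, Pi.smul_apply, smul_eq_mul, Finset.mul_sum]

omit L in
theorem Sm_bt (i : Fin n) : Sm (bt i) = if (i : ℕ) + 1 < n then 0 else 2 := by
  unfold bt nx
  rw [Sm_add, Sm_wt]
  by_cases h : (i : ℕ) + 1 < n
  · rw [dif_pos h, if_pos h, Sm_wt]
    simp
  · rw [dif_neg h, if_neg h, Sm_wt]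
    simp

omit L in
theorem Sm_rf (i : Fin n) (v : Fin n → ℤ) : Sm (rf i v) = Sm v - if (i : ℕ) + 1 < n then 0 else 2 * v i := by
  unfold rf
  rw [Sm_sub, Sm_smul, Sm_bt]
  by_cases h : (i : ℕ) + 1 < n
  · rw [if_pos h, if_pos h, mul_zero]
  · rw [if_neg h, if_neg h]
    unfold Cf
    rw [dif_neg h]
    ring

theorem Ls.Sma (v : Fin n → ℤ) : Sm (rf a v) = Sm v := by
  rw [Sm_rf, if_pos (by have := L.ha; omega), sub_zero]

theorem Ls.Smb (v : Fin n → ℤ) : Sm (rf b v) = Sm v := by
  rw [Sm_rf, if_pos (by have := L.hb; omega), sub_zero]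

theorem Ls.Smc (v : Fin n → ℤ) : Sm (rf c v) = Sm v - 2 * v c := by
  rw [Sm_rf, if_neg (by have := L.hc; omega)]

theorem Ls.Sm_ee (x : Fin n → ℤ) : Sm (ee x) = 2 * x c := by
  unfold ee Sm
  have h1 : ∀ k, (∑ j, x j • bt j) k = ∑ j, x j * bt j k := by
    intro k
    rw [Finset.sum_apply]
    rfl
  simp only [h1]
  rw [Finset.sum_comm]
  have h2 : ∀ j, ∑ k, x j * bt j k = x j * Sm (bt j) := fun j => (Finset.mul_sum _ _ _).symm
  simp only [h2, Sm_bt]
  rw [Finset.sum_eq_single c]
  · rw [if_neg (by have := L.hc; omega)]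
    ring
  · intro j _ hj
    have : (j : ℕ) + 1 < n := by
      have h3 : (j : ℕ) ≠ c := fun h => hj (Fin.ext h)
      have := L.hc; have := j.2; omega
    rw [if_pos this, mul_zero]
  · intro h
    exact absurd (Finset.mem_univ _) h

theorem Ls.fne {S : Finset (Fin n)} (hS : ∀ k ∈ S, (k : ℕ) + 3 < n) : a ∉ S ∧ b ∉ S ∧ c ∉ S := by
  refine ⟨fun h => ?_, fun h => ?_, fun h => ?_⟩ <;>
  · have h1 := hS _ h
    have := L.ha; have := L.hb; have := L.hc
    omega

end coord

/-! ### the separation of the vertices -/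

section W

variable {W : Type*} [Group W] (cs : CoxeterSystem (CoxeterMatrix.B n) W)

/-- the sign functional -/
def sv (w : W) (y : Fin n → ℤ) : ℤ := Sm (ee (rep cs (isCartan n) w⁻¹ y))

variable {cs}
variable {a b c : Fin n} (L : Ls a b c)
include L

theorem Ls.sv_eq {J : Set (Fin n)} (hc : c ∉ J) {w w' z : W} (h : w⁻¹ * z * w' ∈ WJ cs J) (y : Fin n → ℤ) :
    sv cs w y = sv cs w' (rep cs (isCartan n) z⁻¹ y) := by
  unfold sv
  rw [L.Sm_ee, L.Sm_ee]
  congr 1
  have h1 := coord_of_mem_WJ (h := isCartan n) h (rep cs (isCartan n) w'⁻¹ (rep cs (isCartan n) z⁻¹ y)) hc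
  rw [← h1, ← rep_mul_apply, ← rep_mul_apply]
  congr 3
  group

theorem Ls.sv_eq' {J : Set (Fin n)} (hc : c ∉ J) {w v v' : W} (h : w⁻¹ * (v⁻¹ * v') * w ∈ WJ cs J) (y : Fin n → ℤ) :
    sv cs (v * w) y = sv cs (v' * w) y := by
  have h1 : (v * w)⁻¹ * 1 * (v' * w) ∈ WJ cs J := by
    have e : (v * w)⁻¹ * 1 * (v' * w) = w⁻¹ * (v⁻¹ * v') * w := by group
    rw [e]; exact h
  have h2 := L.sv_eq hc h1 y
  rwa [inv_one, map_one, Module.End.one_apply] at h2

omit L in
theorem rep_fix {A' : Set (Fin n)} {x : W} (hx : x ∈ WJ cs A') {y : Fin n → ℤ} (hy : ∀ i ∈ A', Cf i (ee y) = 0) :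
    rep cs (isCartan n) x y = y := by
  unfold WJ at hx
  induction hx using Subgroup.closure_induction with
  | mem z hz =>
    obtain ⟨i, hi, rfl⟩ := hz
    apply ee_injective
    rw [ee_rep]
    unfold rf
    rw [hy i hi, zero_smul, sub_zero]
  | one => rw [map_one, Module.End.one_apply]
  | mul x z _ _ hx hz => rw [rep_mul_apply, hz, hx]
  | inv x _ hx =>
    conv_lhs => rw [← hx]
    rw [rep_inv_apply]

theorem Ls.sv_mul (v w : W) (y : Fin n → ℤ) : sv cs (v * w) y = sv cs w (rep cs (isCartan n) v⁻¹ y) := by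
  unfold sv
  rw [← rep_mul_apply, _root_.mul_inv_rev]

end W

/-! ### the elements -/

section elts

variable {W : Type*} [Group W] {cs : CoxeterSystem (CoxeterMatrix.B n) W}
variable {a b c : Fin n} (L : Ls a b c)

/-- the minimal elements with 0, 1, 2, 3 signs -/
def wj (cs : CoxeterSystem (CoxeterMatrix.B n) W) (a b c : Fin n) (j : Fin 4) : W :=
  if j = 0 then 1 else if j = 1 then cs.simple c else if j = 2 then cs.simple c * cs.simple b * cs.simple c else
    cs.simple c * cs.simple b * cs.simple c * (cs.simple a * cs.simple b * cs.simple c)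

variable (u : Finset (Fin n) → W) (hu : ∀ S x, ee (rep cs (isCartan n) (u S) x) = fl S (ee x))
include hu

omit [Group W] hu in
theorem fl_fl (S : Finset (Fin n)) (v : Fin n → ℤ) : fl S (fl S v) = v := by
  funext k
  unfold fl
  by_cases h : k ∈ S
  · rw [if_pos h, if_pos h, neg_neg]
  · rw [if_neg h, if_neg h]

theorem ee_u_inv (S : Finset (Fin n)) (x : Fin n → ℤ) : ee (rep cs (isCartan n) (u S)⁻¹ x) = fl S (ee x) := by
  have h1 := hu S (rep cs (isCartan n) (u S)⁻¹ x)
  rw [rep_apply_inv] at h1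
  rw [h1, fl_fl]

/-- the sign functional of the elements -/
def Fj (a b c : Fin n) (j : Fin 4) (v : Fin n → ℤ) : ℤ :=
  Sm v - 2 * (if j = 0 then 0 else if j = 1 then v c else if j = 2 then v b + v c else v a + v b + v c)

include L

theorem Ls.sv_wj (S : Finset (Fin n)) (j : Fin 4) (y : Fin n → ℤ) :
    sv cs (u S * wj cs a b c j) y = Fj a b c j (fl S (ee y)) := by
  have hab := L.ab
  have hbc := L.bc
  have hac := L.ac
  unfold sv
  rw [_root_.mul_inv_rev, rep_mul_apply, ]
  rw [← ee_u_inv u hu]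
  generalize rep cs (isCartan n) (u S)⁻¹ y = x
  unfold wj Fj
  fin_cases j
  · simp
  · simp only [Fin.isValue, Fin.reduceFinMk, Fin.reduceEq, if_false, if_true, inv_simple, ee_rep, L.Smc]
  · simp only [Fin.isValue, Fin.reduceFinMk, Fin.reduceEq, if_false, if_true, _root_.mul_inv_rev, inv_simple, rep_mul_apply, ee_rep,
      L.Smc, L.Smb, L.rfb, L.rfc]
    simp only [hbc, hbc.symm, if_false, if_true]
    ring
  · simp only [Fin.isValue, Fin.reduceFinMk, Fin.reduceEq, if_false, if_true, _root_.mul_inv_rev, inv_simple, rep_mul_apply, ee_rep,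
      L.Smc, L.Smb, L.Sma, L.rfa, L.rfb, L.rfc]
    simp only [hbc, hbc.symm, hab, hab.symm, hac, hac.symm, if_false, if_true]
    ring

omit hu in
theorem Ls.fl_bta {S : Finset (Fin n)} (hS : ∀ k ∈ S, (k : ℕ) + 3 < n) : fl S (bt a) = bt a := by
  obtain ⟨h1, h2, h3⟩ := L.fne hS
  funext k
  unfold fl
  by_cases hk : k ∈ S
  · have k1 : k ≠ a := fun h => h1 (h ▸ hk)
    have k2 : k ≠ b := fun h => h2 (h ▸ hk)
    rw [if_pos hk, L.bta, if_neg k1, if_neg k2, neg_zero]
  · rw [if_neg hk]

omit hu in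
theorem Ls.fl_btb {S : Finset (Fin n)} (hS : ∀ k ∈ S, (k : ℕ) + 3 < n) : fl S (bt b) = bt b := by
  obtain ⟨h1, h2, h3⟩ := L.fne hS
  funext k
  unfold fl
  by_cases hk : k ∈ S
  · have k1 : k ≠ b := fun h => h2 (h ▸ hk)
    have k2 : k ≠ c := fun h => h3 (h ▸ hk)
    rw [if_pos hk, L.btb, if_neg k1, if_neg k2, neg_zero]
  · rw [if_neg hk]

theorem Ls.wj_a {S : Finset (Fin n)} (hS : ∀ k ∈ S, (k : ℕ) + 3 < n) (j : Fin 4) :
    rep cs (isCartan n) (u S * wj cs a b c j)⁻¹ (sr a) =
      if j = 0 then sr a else if j = 1 then sr a else if j = 2 then sr a + sr b + sr c else sr b := by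
  have hab := L.ab
  have hbc := L.bc
  have hac := L.ac
  apply ee_injective
  have h1 : ee (rep cs (isCartan n) (u S)⁻¹ (sr a)) = bt a := by rw [ee_u_inv u hu, ee_sr, L.fl_bta hS]
  have h2 : rep cs (isCartan n) (u S)⁻¹ (sr a) = sr a := ee_injective (h1.trans (ee_sr a).symm)
  rw [_root_.mul_inv_rev, rep_mul_apply, h2]
  unfold wj
  funext k
  fin_cases j
  · simp
  · simp only [Fin.isValue, Fin.reduceFinMk, Fin.reduceEq, if_false, if_true, inv_simple, ee_rep, ee_sr, L.rfc, L.bta]
    simp only [hbc, hbc.symm, hab, hab.symm, hac, hac.symm, if_false, if_true]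
    split_ifs with h <;> simp_all
  · simp only [Fin.isValue, Fin.reduceFinMk, Fin.reduceEq, if_false, if_true, _root_.mul_inv_rev, inv_simple, rep_mul_apply, ee_rep,
      ee_add, ee_sr, Pi.add_apply, L.rfa, L.rfb, L.rfc, L.bta, L.btb, L.btc]
    simp only [hbc, hbc.symm, hab, hab.symm, hac, hac.symm, if_false, if_true]
    split_ifs <;> simp_all
  · simp only [Fin.isValue, Fin.reduceFinMk, Fin.reduceEq, if_false, if_true, _root_.mul_inv_rev, inv_simple, rep_mul_apply, ee_rep,
      ee_add, ee_sr, Pi.add_apply, L.rfa, L.rfb, L.rfc, L.bta, L.btb, L.btc]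
    simp only [hbc, hbc.symm, hab, hab.symm, hac, hac.symm, if_false, if_true]
    split_ifs <;> simp_all

theorem Ls.wj_b {S : Finset (Fin n)} (hS : ∀ k ∈ S, (k : ℕ) + 3 < n) (j : Fin 4) :
    rep cs (isCartan n) (u S * wj cs a b c j)⁻¹ (sr b) =
      if j = 0 then sr b else if j = 1 then sr b + sr c else if j = 2 then sr b else sr a := by
  have hab := L.ab
  have hbc := L.bc
  have hac := L.ac
  apply ee_injective
  have h1 : ee (rep cs (isCartan n) (u S)⁻¹ (sr b)) = bt b := by rw [ee_u_inv u hu, ee_sr, L.fl_btb hS]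
  have h2 : rep cs (isCartan n) (u S)⁻¹ (sr b) = sr b := ee_injective (h1.trans (ee_sr b).symm)
  rw [_root_.mul_inv_rev, rep_mul_apply, h2]
  unfold wj
  funext k
  fin_cases j
  · simp
  · simp only [Fin.isValue, Fin.reduceFinMk, Fin.reduceEq, if_false, if_true, inv_simple, ee_rep, ee_add, ee_sr,
      Pi.add_apply, L.rfc, L.btb, L.btc]
    simp only [hbc, hbc.symm, hab, hab.symm, hac, hac.symm, if_false, if_true]
    split_ifs <;> simp_all
  · simp only [Fin.isValue, Fin.reduceFinMk, Fin.reduceEq, if_false, if_true, _root_.mul_inv_rev, inv_simple, rep_mul_apply, ee_rep,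
      ee_add, ee_sr, Pi.add_apply, L.rfa, L.rfb, L.rfc, L.bta, L.btb, L.btc]
    simp only [hbc, hbc.symm, hab, hab.symm, hac, hac.symm, if_false, if_true]
    split_ifs <;> simp_all
  · simp only [Fin.isValue, Fin.reduceFinMk, Fin.reduceEq, if_false, if_true, _root_.mul_inv_rev, inv_simple, rep_mul_apply, ee_rep,
      ee_add, ee_sr, Pi.add_apply, L.rfa, L.rfb, L.rfc, L.bta, L.btb, L.btc]
    simp only [hbc, hbc.symm, hab, hab.symm, hac, hac.symm, if_false, if_true]
    split_ifs <;> simp_all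

theorem Ls.hmin {S : Finset (Fin n)} (hS : ∀ k ∈ S, (k : ℕ) + 3 < n) (j : Fin 4) :
    ∀ i ∈ ({a, b} : Set (Fin n)), 0 ≤ rep cs (isCartan n) (u S * wj cs a b c j)⁻¹ (sr i) := by
  rintro i (rfl | hi)
  · rw [L.wj_a u hu hS]
    split_ifs
    · exact sr_nonneg _
    · exact sr_nonneg _
    · exact add_nonneg (add_nonneg (sr_nonneg _) (sr_nonneg _)) (sr_nonneg _)
    · exact sr_nonneg _
  · rw [Set.mem_singleton_iff] at hi
    subst hi
    rw [L.wj_b u hu hS]
    split_ifs
    · exact sr_nonneg _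
    · exact add_nonneg (sr_nonneg _) (sr_nonneg _)
    · exact sr_nonneg _
    · exact sr_nonneg _

omit hu L in
/-- twice a coordinate vector -/
theorem exists_y (cs : CoxeterSystem (CoxeterMatrix.B n) W) (k : Fin n) : ∃ y : Fin n → ℤ, ee y = fun m => if m = k then 2 else 0 := by
  obtain ⟨y, hy⟩ := exists_long cs (k, true)
  refine ⟨y, ?_⟩
  rw [hy]
  funext m
  rw [Pi.add_apply, wt_apply]
  by_cases h : m = k
  · simp [h]
  · simp [h]

omit hu L in
theorem Sm_single (k : Fin n) (r : ℤ) : Sm (fun m => if m = k then r else 0) = r := by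
  unfold Sm
  simp

omit hu in
/-- **separation of the orbits** -/
theorem Ls.sep {J : Set (Fin n)} (hc : c ∉ J) (hu : ∀ S x, ee (rep cs (isCartan n) (u S) x) = fl S (ee x))
    {S S' : Finset (Fin n)} (hS : ∀ k ∈ S, (k : ℕ) + 3 < n) (hS' : ∀ k ∈ S', (k : ℕ) + 3 < n) {j j' : Fin 4}
    {x : W} (hx : x ∈ WJ cs ({a, b} : Set (Fin n)))
    (h : (u S * wj cs a b c j)⁻¹ * x * (u S' * wj cs a b c j') ∈ WJ cs J) : S = S' ∧ j = j' := by
  have hab := L.ab
  have hbc := L.bc
  have hac := L.ac
  obtain ⟨s1, s2, s3⟩ := L.fne hS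
  obtain ⟨t1, t2, t3⟩ := L.fne hS'
  have key : ∀ y : Fin n → ℤ, Cf a (ee y) = 0 → Cf b (ee y) = 0 →
      Fj a b c j (fl S (ee y)) = Fj a b c j' (fl S' (ee y)) := by
    intro y h1 h2
    have h3 := L.sv_eq hc h y
    rw [rep_fix (inv_mem hx) (by
      rintro i (rfl | hi)
      · exact h1
      · rw [Set.mem_singleton_iff] at hi; rw [hi]; exact h2), L.sv_wj u hu, L.sv_wj u hu] at h3
    exact h3
  have hCa : ∀ v : Fin n → ℤ, Cf a v = v a - v b := by
    intro v
    unfold Cf
    have hi : (a : ℕ) + 1 < n := by have := L.ha; omega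
    rw [dif_pos hi]
    have h1 : (⟨a + 1, hi⟩ : Fin n) = b := Fin.ext (by have := L.ha; have := L.hb; simp only; omega)
    rw [h1]
  have hCb : ∀ v : Fin n → ℤ, Cf b v = v b - v c := by
    intro v
    unfold Cf
    have hi : (b : ℕ) + 1 < n := by have := L.hb; omega
    rw [dif_pos hi]
    have h1 : (⟨b + 1, hi⟩ : Fin n) = c := Fin.ext (by have := L.hb; have := L.hc; simp only; omega)
    rw [h1]
  constructor
  · ext k
    by_cases hk : (k : ℕ) + 3 < n
    · have ka : k ≠ a := fun h => by have := L.ha; rw [h] at hk; omega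
      have kb : k ≠ b := fun h => by have := L.hb; rw [h] at hk; omega
      have kc : k ≠ c := fun h => by have := L.hc; rw [h] at hk; omega
      obtain ⟨y, hy⟩ := exists_y cs k
      have h1 := key y (by rw [hCa, hy]; simp [ka.symm, kb.symm]) (by rw [hCb, hy]; simp [kb.symm, kc.symm])
      have h2 : ∀ (S : Finset (Fin n)) (j : Fin 4), Fj a b c j (fl S (ee y)) = if k ∈ S then -2 else 2 := by
        intro S j
        have e1 : fl S (ee y) = fun m => if m = k then (if k ∈ S then -2 else 2) else 0 := by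
          rw [hy]
          funext m
          unfold fl
          by_cases hm : m = k
          · subst hm
            simp only [if_true]
          · simp [hm]
        rw [e1]
        unfold Fj
        rw [Sm_single]
        simp only [ka.symm, kb.symm, kc.symm, if_false]
        split_ifs <;> ring
      rw [h2, h2] at h1
      by_cases h3 : k ∈ S <;> by_cases h4 : k ∈ S' <;> simp_all
    · exact ⟨fun h => absurd (hS k h) hk, fun h => absurd (hS' k h) hk⟩
  · obtain ⟨ya, hya⟩ := exists_y cs a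
    obtain ⟨yb, hyb⟩ := exists_y cs b
    obtain ⟨yc, hyc⟩ := exists_y cs c
    have hy : ee (ya + yb + yc) = fun m => (if m = a then 2 else 0) + (if m = b then 2 else 0) + (if m = c then 2 else 0) := by
      rw [ee_add, ee_add, hya, hyb, hyc]
      rfl
    have h1 := key (ya + yb + yc) (by
      rw [hCa, hy]
      simp [hab, hab.symm, hac, hbc]) (by
      rw [hCb, hy]
      simp [hab.symm, hbc, hbc.symm, hac.symm])
    have h2 : ∀ (S : Finset (Fin n)) (j : Fin 4), a ∉ S → b ∉ S → c ∉ S →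
        Fj a b c j (fl S (ee (ya + yb + yc))) = 6 - 4 * (j : ℤ) := by
      intro S j h1 h2 h3
      have e1 : fl S (ee (ya + yb + yc)) = ee (ya + yb + yc) := by
        rw [hy]
        funext m
        unfold fl
        by_cases hm : m ∈ S
        · have ma : m ≠ a := fun h => h1 (h ▸ hm)
          have mb : m ≠ b := fun h => h2 (h ▸ hm)
          have mc : m ≠ c := fun h => h3 (h ▸ hm)
          simp [ma, mb, mc]
        · rw [if_neg hm]
      have e2 : Sm (ee (ya + yb + yc)) = 6 := by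
        rw [ee_add, ee_add, Sm_add, Sm_add, hya, hyb, hyc, Sm_single, Sm_single, Sm_single]
        norm_num
      rw [e1]
      unfold Fj
      rw [e2, hy]
      simp only [hbc, hbc.symm, hab, hab.symm, hac, hac.symm, if_false, if_true]
      fin_cases j <;> simp
    rw [h2 S j s1 s2 s3, h2 S' j' t1 t2 t3] at h1
    apply Fin.ext
    omega

end elts

end Cfsg.Agent.H762.Ppd.Spin
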