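import Cfsg.Agent.H48.NatSU
import Cfsg.Agent.H948.Ppd.EdgeB
import Cfsg.Agent.H948.Ppd.NdWitt

/-!
# `SU_N(q)` as the covering group of a core, type `B_n` (helper762, TEAM PPD)

* `exists_covSU` : `φ : M.I → GL(ι, F)` with image `P`, `M` the model of `SU_N(K)`, the covering group `M.I` itself;
* `comm_SU`, `pow_SU` : the torus is commutative of exponent dividing `|K| - 1`.
-/

set_option autoImplicit false
set_option linter.unusedSectionVars false
set_option linter.style.haveILetI false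

namespace Cfsg.Agent.H762.Ppd

open CoxeterSystem Cfsg.Agent.ChevalleyStructure.CoxeterGeom Cfsg.Agent.Tits.Roots Cfsg.Agent.Tits.Core
  Cfsg.Agent.Nodes.Reps Cfsg.Agent.Nodes.BNOf Cfsg.Agent.Nodes.Bruhat Cfsg.Agent.Nodes.RGDLib
open Cfsg.Agent.Nodes Cfsg.Agent.Nodes.WittRoot Cfsg.Agent.Nodes.WittRGD Cfsg.Agent.Nodes.WittAll Cfsg.Agent.Nodes.WittU
open Cfsg.Agent.Nodes.TypeC (isCartan)
open Cfsg.Agent.LieClassical.HermBasic Cfsg.Agent.LieClassical.HermSiegel
open Cfsg.Agent.TitsThree.Siegel Cfsg.Agent.TitsThree.SiegelGen Cfsg.Agent.TitsThree.WittFrame Cfsg.Agent.TitsThree.FrameCN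
  Cfsg.Agent.TitsThree.WBridge Cfsg.Agent.TitsThree.KSideU Cfsg.Agent.TitsThree.KSideUDesc Cfsg.Agent.TitsThree
open Cfsg.Agent.H915.LD Cfsg.Agent.H911 Cfsg.Agent.H905.Md Cfsg.Agent.H925.Nat Cfsg.Agent.Nodes.RGDLift
open Cfsg.Agent.H156.Ppd (Cov lrep exists_cov)
open Cfsg.Agent.Omega.CR Cfsg.Agent.Omega.FOne.Lift.Sd
open Cfsg.Agent.H948.Ppd
open Cfsg.Agent.H61.SUCross Cfsg.Agent.H48.NatSU
open Cfsg Cfsg.Geo
open scoped MatrixGroups Matrix

universe u v w

variable {K : Type} [Field K] [Fintype K] {q N n : ℕ} {hK : Fintype.card K = q ^ 2} {hN : 3 ≤ N} {W : WFrame (PU hK N) n}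

theorem perfect_I (h32 : ¬ (N = 3 ∧ q = 2)) : commutator ↥(modelSU hK hN W).I = ⊤ := by
  have h1 := GpUn.perfect_SU hK hN h32
  have e : ↥(modelSU hK hN W).I ≃* SU N K q := ofRange K q N
  rw [commutator_eq_closure] at h1 ⊢
  rw [← commutator_eq_closure] at h1 ⊢
  have h2 : (commutator ↥(modelSU hK hN W).I).map e.toMonoidHom = commutator (SU N K q) := by
    rw [commutator_def, commutator_def, Subgroup.map_commutator, ← MonoidHom.range_eq_map,
      MonoidHom.range_eq_top.2 e.surjective]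
  rw [h1] at h2
  rw [eq_top_iff]
  intro x _
  have h3 : e.toMonoidHom x ∈ (commutator ↥(modelSU hK hN W).I).map e.toMonoidHom := by rw [h2]; trivial
  obtain ⟨y, hy, hyx⟩ := h3
  rwa [← e.injective hyx]

theorem comm_SU (hW : Kind W) : ∀ s ∈ TB (modelSU hK hN W), ∀ t ∈ TB (modelSU hK hN W), s * t = t * s := by
  intro s hs t ht
  exact Subtype.ext (tor_comm hW (Subgroup.mem_subgroupOf.1 hs) (Subgroup.mem_subgroupOf.1 ht))

theorem pow_SU (hW : Kind W) : ∀ t ∈ TB (modelSU hK hN W), t ^ Nat.card K = t := by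
  intro t ht
  have ht' := Subgroup.mem_subgroupOf.1 ht
  obtain ⟨ν, hν, hν'⟩ := exists_scal hW ht'.1 ht'.2 (ρ := id) (fun _ => rfl)
  apply Subtype.ext
  change (t : (Fin N → K) ≃ₗ[K] (Fin N → K)) ^ Nat.card K = t
  refine eq_of_fix (amb_U hK W) (fun x => ?_) (fun w hw => ?_)
  · obtain ⟨a, ha0, ha⟩ := ht'.2 x
    have ha' : (t : (Fin N → K) ≃ₗ[K] (Fin N → K)) ((toFrame W).b x) = a • (toFrame W).b x := ha
    rw [pow_apply_smul ha', ha', Nat.card_eq_fintype_card, FiniteField.pow_card]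
  · rw [pow_apply_smul (hν' w hw), hν' w hw, Nat.card_eq_fintype_card, FiniteField.pow_card]

section cov

variable {F : Type u} [Field F] [Finite F] {ι : Type} [Fintype ι] [DecidableEq ι] {P : Subgroup (GL ι F)}
  {p : ℕ} [hp : Fact p.Prime] [hFp : CharP F p] [hKp : CharP K p]

theorem exists_covSU (hC : Core P) (h32 : ¬ (N = 3 ∧ q = 2)) (hn : 0 < n)
    {hA : AmbT (toFrame W) p (modelSU hK hN W).I} {p0 : (toFrame W).Adm} (hp0 : p0.c ≠ 0)
    (e : Soc P ≃* PSU N K q) :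
    ∃ φ : (modelSU hK hN W).I →* GL ι F,
      Cov (CoxeterMatrix.B n).toCoxeterSystem (isCartan n) p (TB (modelSU hK hN W)) (NB hA p0)
        (XB (modelSU hK hN W)) P (MonoidHom.id (modelSU hK hN W).I) φ (NB hA p0) := by
  have hperf := perfect_I (hN := hN) (W := W) h32
  have hWf : Finite (CoxeterMatrix.B n).Group := TypeC.finite_W (CoxeterMatrix.B n).toCoxeterSystem
  have := finite_GL (K := K) (ν := Fin N)
  have R := rgdB hA hp0 (CoxeterMatrix.B n).toCoxeterSystem (M := modelSU hK hN W)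
  have hG := genB hA hn hperf (CoxeterMatrix.B n).toCoxeterSystem
  obtain ⟨φ, hφ, -, -⟩ := psu_cover p hK hN h32 hC.perfect e
  have hker : (MonoidHom.id (modelSU hK hN W).I).ker = ⊥ := by
    rw [MonoidHom.ker_eq_bot_iff]
    exact fun _ _ h => h
  have h1 : (MonoidHom.id (modelSU hK hN W).I).ker ≤ Subgroup.center _ := by rw [hker]; exact bot_le
  have h2 : (Nat.card (MonoidHom.id (modelSU hK hN W).I).ker).Coprime p := by
    rw [hker, Subgroup.card_bot]; exact Nat.coprime_one_left _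
  obtain ⟨n₁, hn₁, R₁, hG₁⟩ := H905.DC.exists_rgd_lift hperf h1 h2 Function.surjective_id R hG
  obtain rfl : n₁ = NB hA p0 := funext hn₁
  refine ⟨φ.comp (modelSU hK hN W).φ, Function.surjective_id, h1, h2, hn₁, R₁, hG₁, ?_⟩
  rw [MonoidHom.range_comp]
  have h3 : (modelSU hK hN W).φ.range = ⊤ := MonoidHom.range_eq_top.2 (ofRange K q N).surjective
  rw [h3, ← MonoidHom.range_eq_map, hφ]

end cov

end Cfsg.Agent.H762.Ppd
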